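import Cfsg.Agent.PairPSolv.Simple

/-!
# Cyclic Sylow `p`-subgroups: `p`-solvability is detected on pairs of elements of order `p`
-/

set_option autoImplicit false

namespace Cfsg.Agent.PairPSolv

open Subgroup Cfsg
open Cfsg.Agent

universe u

variable {p : ℕ} [hp : Fact p.Prime]

theorem isPSolvable_of_isPGroup {H : Type u} [Group H] [Finite H] (hH : IsPGroup p H) :
    IsPSolvable p H := by
  haveI : Subsingleton (⊥ : Subgroup H) := ⟨fun a b => Subtype.ext (by
    rw [Subgroup.mem_bot.1 a.2, Subgroup.mem_bot.1 b.2])⟩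
  refine FusSys.isPSolvable_of_normal H ⊥ (FusSys.isPSolvable_of_subsingleton _) (Or.inl ?_)
  rw [Subgroup.index_bot]
  exact IsPGroup.iff_card.1 hH

theorem isPSolvable_of_pairs (G : Type u) [Group G] [Finite G] (hcs : CyclicSyl p G)
    (hc : ∀ u v : G, orderOf u = p → orderOf v = p →
      Cfsg.IsPSolvable p ↥(Subgroup.closure ({u, v} : Set G))) : IsPSolvable p G := by
  induction hn : Nat.card G using Nat.strong_induction_on generalizing G with
  | _ c IH =>
  subst hn
  by_cases hpG : p ∣ Nat.card G
  swap
  · exact isPSolvable_of_coprime (hp.out.coprime_iff_not_dvd.2 hpG).symm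
  haveI : Nontrivial G := Finite.one_lt_card_iff_nontrivial.1
    (lt_of_lt_of_le hp.out.one_lt (Nat.le_of_dvd Nat.card_pos hpG))
  by_cases hsimp : IsSimpleGroup G
  · by_cases hab : IsMulCommutative G
    · obtain ⟨P⟩ : Nonempty (Sylow p G) := inferInstance
      refine isPSolvable_of_isPGroup ?_
      have hnorm : (P : Subgroup G).Normal := ⟨fun a ha g => by
        rw [mul_comm' g a, mul_inv_cancel_right]; exact ha⟩
      rcases IsSimpleGroup.eq_bot_or_eq_top_of_normal (P : Subgroup G) hnorm with h | h
      · exfalso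
        have h1 := P.dvd_card_of_dvd_card hpG
        rw [h, Subgroup.card_bot, Nat.dvd_one] at h1
        exact hp.out.ne_one h1
      · intro a
        obtain ⟨k, hk⟩ := P.2 ⟨a, h ▸ mem_top a⟩
        exact ⟨k, congrArg Subtype.val hk⟩
    · have := Fintype.ofFinite G
      obtain ⟨P⟩ : Nonempty (Sylow p G) := inferInstance
      exact (simple_false hab P (hcs _ P.2) hpG hc).elim
  obtain ⟨N, hN, hN0, hN1⟩ : ∃ N : Subgroup G, N.Normal ∧ N ≠ ⊥ ∧ N ≠ ⊤ := by
    by_contra hno
    refine hsimp ⟨fun H hH => ?_⟩
    by_contra hh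
    rw [not_or] at hh
    exact hno ⟨H, hH, hh.1, hh.2⟩
  haveI := hN
  have hNs : IsPSolvable p N := by
    refine IH _ ?_ N (hcs.subgroup N) (fun u v hu hv => ?_) rfl
    · refine lt_of_le_of_ne (Subgroup.card_le_card_group N) fun h => hN1 (Subgroup.card_eq_iff_eq_top N |>.1 h)
    · have h := hc (u : G) (v : G) (by rw [Subgroup.orderOf_coe]; exact hu)
        (by rw [Subgroup.orderOf_coe]; exact hv)
      have e : (Subgroup.closure ({u, v} : Set N)).map N.subtype =
          Subgroup.closure ({(u : G), (v : G)} : Set G) := by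
        rw [MonoidHom.map_closure, Set.image_pair]
        rfl
      exact FusSys.isPSolvable_congr ((MulEquiv.subgroupCongr e.symm).trans
        ((Subgroup.closure ({u, v} : Set N)).equivMapOfInjective N.subtype
          N.subtype_injective).symm) h
  refine isPSolvable_of_quotient N hNs ?_
  by_cases hpN : p ∣ Nat.card N
  · -- Frattini
    obtain ⟨y, hy⟩ := exists_prime_orderOf_dvd_card' (G := N) p hpN
    have hyo : orderOf (y : G) = p := by rw [Subgroup.orderOf_coe]; exact hy
    set X := zpowers (y : G) with hX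
    have hXN : X ≤ N := Subgroup.zpowers_le.2 y.2
    set L := normalizer (X : Set G) with hL
    have hLs : IsPSolvable p L := hcs.isPSolvable_normalizer hyo
    have hsurj : Function.Surjective ((QuotientGroup.mk' N).comp L.subtype) := by
      intro t
      obtain ⟨g, rfl⟩ := QuotientGroup.mk'_surjective N t
      -- `g y g⁻¹` is `N`-conjugate into `⟨y⟩`
      have hgy : g * (y : G) * g⁻¹ ∈ N := hN.conj_mem _ y.2 g
      have hY : IsPGroup p (zpowers y) :=
        IsPGroup.of_card (n := 1) (by rw [Nat.card_zpowers, hy, pow_one])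
      have hgo : orderOf (⟨_, hgy⟩ : N) = p := by
        rw [← Subgroup.orderOf_coe]
        show orderOf (g * (y : G) * g⁻¹) = p
        rw [← MulAut.conj_apply, MulEquiv.orderOf_eq]
        exact hyo
      have hY' : IsPGroup p (zpowers (⟨_, hgy⟩ : N)) :=
        IsPGroup.of_card (n := 1) (by rw [Nat.card_zpowers, hgo, pow_one])
      obtain ⟨S, hS⟩ := hY.exists_le_sylow
      obtain ⟨S', hS'⟩ := hY'.exists_le_sylow
      obtain ⟨k, hk⟩ := MulAction.exists_smul_eq N S' S
      set z : N := k * ⟨_, hgy⟩ * k⁻¹ with hz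
      have hzS : z ∈ (S : Subgroup N) := hk ▸ ⟨_, hS' (mem_zpowers _), rfl⟩
      have hzp : z ^ p = 1 := by
        rw [hz, conj_pow, orderOf_dvd_iff_pow_eq_one.1 hgo.dvd, mul_one, mul_inv_cancel]
      obtain ⟨i, hi⟩ := (hcs.subgroup N).mem_zpowers S.2 (hS (mem_zpowers y)) hy hzS hzp
      have hmem : (k : G) * g ∈ L := by
        have hconj : (k : G) * g * (y : G) * ((k : G) * g)⁻¹ = (y : G) ^ i := by
          have h1 := congrArg Subtype.val hi
          simp only [SubgroupClass.coe_zpow, hz, Subgroup.coe_mul, Subgroup.coe_inv] at h1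
          rw [h1]; group
        have hle : X.map (MulAut.conj ((k : G) * g)).toMonoidHom ≤ X := by
          rw [hX, MonoidHom.map_zpowers]
          refine Subgroup.zpowers_le.2 ?_
          show (k : G) * g * (y : G) * ((k : G) * g)⁻¹ ∈ zpowers (y : G)
          rw [hconj]
          exact zpow_mem (mem_zpowers _) i
        have heq : X.map (MulAut.conj ((k : G) * g)).toMonoidHom = X :=
          Subgroup.eq_of_le_of_card_ge hle
            (by rw [Subgroup.card_map_of_injective (MulAut.conj _).injective])
        rw [hL, Subgroup.mem_normalizer_iff]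
        intro w
        constructor
        · intro hw
          exact heq ▸ ⟨w, hw, rfl⟩
        · intro hw
          rw [← heq] at hw
          obtain ⟨w', hw', he⟩ := hw
          have : w' = w := (MulAut.conj ((k : G) * g)).injective he
          exact this ▸ hw'
      refine ⟨⟨(k : G) * g, hmem⟩, ?_⟩
      show QuotientGroup.mk' N ((k : G) * g) = QuotientGroup.mk' N g
      rw [map_mul, show QuotientGroup.mk' N (k : G) = 1 from (QuotientGroup.eq_one_iff _).2 k.2,
        one_mul]
    exact Layer.isPSolvable_of_surjective hLs hsurj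
  · refine IH _ (Core.card_quotient_lt hN0) (G ⧸ N) (hcs.quotient N) (fun u v hu hv => ?_) rfl
    have hlift : ∀ t : G ⧸ N, orderOf t = p → ∃ a : G, QuotientGroup.mk' N a = t ∧ orderOf a = p := by
      intro t ht
      obtain ⟨z, rfl⟩ := QuotientGroup.mk'_surjective N t
      refine ⟨Blocks.pPartOf p z, ?_, ?_⟩
      · have h1 : (QuotientGroup.mk' N z) = QuotientGroup.mk' N (Blocks.pPartOf p z) *
            QuotientGroup.mk' N (Blocks.pPrimePartOf p z) := by
          rw [← map_mul, Blocks.pPartOf_mul_pPrimePartOf hp.out z]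
        have h2 : QuotientGroup.mk' N (Blocks.pPrimePartOf p z) = 1 := by
          have hd1 : orderOf (QuotientGroup.mk' N (Blocks.pPrimePartOf p z)) ∣ p := by
            rw [← ht, Blocks.pPrimePartOf, map_pow]
            exact orderOf_pow_dvd _
          rcases (Nat.dvd_prime hp.out).1 hd1 with h | h
          · exact orderOf_eq_one_iff.1 h
          · exact absurd (dvd_trans (by rw [h]) (orderOf_map_dvd _ _))
              (Blocks.not_dvd_orderOf_pPrimePartOf hp.out z)
        rw [h1, h2, mul_one]
      · set w := Blocks.pPartOf p z with hw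
        obtain ⟨k, hk⟩ := Blocks.orderOf_pPartOf hp.out z
        have hwt : QuotientGroup.mk' N z ^ p = 1 := orderOf_dvd_iff_pow_eq_one.1 ht.dvd
        have hwN : w ^ p ∈ N := (QuotientGroup.eq_one_iff _).1 (by
          show QuotientGroup.mk' N (w ^ p) = 1
          rw [hw, Blocks.pPartOf, ← pow_mul, mul_comm, pow_mul, map_pow, map_pow, hwt, one_pow])
        have hwp : w ^ p = 1 := by
          have h1 : orderOf (w ^ p) ∣ Nat.card N := by
            have := orderOf_dvd_natCard (⟨_, hwN⟩ : N)
            rwa [← Subgroup.orderOf_coe] at this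
          have h2 : orderOf (w ^ p) ∣ p ^ k := hk ▸ orderOf_pow_dvd _
          exact orderOf_eq_one_iff.1 (Nat.eq_one_of_dvd_coprimes
            ((Nat.Coprime.pow_right k (hp.out.coprime_iff_not_dvd.2 hpN).symm)) h1 h2)
        refine orderOf_eq_prime hwp fun h1 => ?_
        have hz : ¬ p ∣ orderOf z := (Blocks.pPartOf_eq_one_iff hp.out z).1 h1
        exact hz (ht ▸ orderOf_map_dvd _ z)
    obtain ⟨a, rfl, ha⟩ := hlift u hu
    obtain ⟨b, rfl, hb⟩ := hlift v hv
    set H := Subgroup.closure ({a, b} : Set G)
    have e : H.map (QuotientGroup.mk' N) =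
        Subgroup.closure ({QuotientGroup.mk' N a, QuotientGroup.mk' N b} : Set (G ⧸ N)) := by
      rw [MonoidHom.map_closure, Set.image_pair]
    exact FusSys.isPSolvable_congr (MulEquiv.subgroupCongr e)
      (Layer.isPSolvable_of_surjective (hc a b ha hb) ((QuotientGroup.mk' N).subgroupMap_surjective H))

end Cfsg.Agent.PairPSolv
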