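import Cfsg.Agent.Blocks.Principal
import Cfsg.Agent.BlockThms.OrderP.Lift
import Cfsg.Agent.BlockChar.Nilpotent
import Cfsg.Agent.Char.ClassAlg
import Cfsg.Agent.Char.Ortho

/-!
# The section of a `p`-element with `p`-nilpotent centraliser

The indicator of such a section is a combination of the characters of the principal block.
-/

set_option autoImplicit false

namespace Cfsg.Agent.PairPSolv

open scoped ComplexConjugate Classical
open Cfsg.Agent Cfsg.Agent.Blocks
open Cfsg.Agent.BlockThms.OrderP (fiber mem_fiber sum_fiber_conj)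

universe u

variable {G : Type u} [Group G] [Fintype G] {p : ℕ} [Fact p.Prime] {x : G}

/-- The indicator of the section of `x`. -/
noncomputable def sect (p : ℕ) (x : G) : G → ℂ := fun g => if IsConj x (pPartOf p g) then 1 else 0

theorem isClassFunction_sect : Cfsg.IsClassFunction G (sect p x) := fun g k => by
  unfold sect
  refine if_congr ?_ rfl rfl
  rw [pPartOf_conj (p := p)]
  exact ⟨fun h => h.trans (isConj_iff.2 ⟨k, rfl⟩).symm, fun h => h.trans (isConj_iff.2 ⟨k, rfl⟩)⟩

/-- The data of a `p`-element whose centraliser has a normal `p`-complement. -/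
structure CentData (p : ℕ) (x : G) (K : Subgroup G) (q : ℕ) : Prop where
  ord : ∃ k, orderOf x = p ^ k
  mem : ∀ a : G, a ∈ K ↔ a ∈ Subgroup.centralizer ({x} : Set G) ∧ ¬ p ∣ orderOf a
  card : Nat.card (Subgroup.centralizer ({x} : Set G)) = q * Nat.card K
  compl : Cfsg.HasNormalPComplement p (Subgroup.centralizer ({x} : Set G))
  coprime : ¬ p ∣ Nat.card K
  normal : (K.subgroupOf (Subgroup.centralizer ({x} : Set G))).Normal
  pow : ∃ k, q = p ^ k

theorem exists_centData (hx : ∃ k, orderOf x = p ^ k)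
    (h : Cfsg.HasNormalPComplement p (Subgroup.centralizer ({x} : Set G))) :
    ∃ (P₀ : Sylow p (Subgroup.centralizer ({x} : Set G))) (K : Subgroup G),
      CentData p x K (Nat.card P₀) := by
  obtain ⟨P₀, N, hN, hc⟩ := h
  have hp : p.Prime := Fact.out
  have hcard : Nat.card N * Nat.card P₀ = Nat.card (Subgroup.centralizer ({x} : Set G)) :=
    hc.card_mul_card
  have hidx : N.index = Nat.card P₀ := hc.symm.index_eq_card
  have hcop : ¬ p ∣ Nat.card N := by
    have h1 := P₀.not_dvd_index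
    rwa [hc.index_eq_card] at h1
  obtain ⟨k, hk⟩ := IsPGroup.iff_card.1 P₀.2
  refine ⟨P₀, N.map (Subgroup.centralizer ({x} : Set G)).subtype, ?_, ?_, ?_, ⟨P₀, N, hN, hc⟩,
    ?_, ?_, ⟨k, hk⟩⟩
  · exact hx
  · intro a
    constructor
    · rintro ⟨b, hb, rfl⟩
      refine ⟨b.2, fun hd => hcop (hd.trans ?_)⟩
      have : orderOf ((Subgroup.centralizer ({x} : Set G)).subtype b) = orderOf (⟨b, hb⟩ : N) := by
        rw [Subgroup.coe_subtype, Subgroup.orderOf_coe, ← Subgroup.orderOf_coe (⟨b, hb⟩ : N)]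
      rw [this]
      exact orderOf_dvd_natCard _
    · rintro ⟨hac, hd⟩
      refine ⟨⟨a, hac⟩, ?_, rfl⟩
      have h1 := N.pow_index_mem (⟨a, hac⟩ : Subgroup.centralizer ({x} : Set G))
      rw [hidx, hk] at h1
      obtain ⟨m, hm⟩ := exists_pow_eq_self_of_coprime (n := p ^ k)
        (x := (⟨a, hac⟩ : Subgroup.centralizer ({x} : Set G))) (by
          rw [← Subgroup.orderOf_coe]
          exact (hp.coprime_iff_not_dvd.2 hd).pow_left k)
      rw [SetLike.mem_coe, ← hm]
      exact pow_mem h1 m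
  · rw [Subgroup.card_map_of_injective (Subgroup.subtype_injective _), ← hcard, mul_comm]
  · rwa [Subgroup.card_map_of_injective (Subgroup.subtype_injective _)]
  · rw [Subgroup.subgroupOf, Subgroup.comap_map_eq_self_of_injective (Subgroup.subtype_injective _)]
    exact hN

variable {K : Subgroup G} {q : ℕ}

theorem CentData.commute (hK : CentData p x K q) {a : G} (ha : a ∈ K) : Commute x a :=
  (Subgroup.mem_centralizer_singleton_iff.1 ((hK.mem a).1 ha).1).symm

theorem CentData.pPartOf_mul (hK : CentData p x K q) {a : G} (ha : a ∈ K) :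
    pPartOf p (x * a) = x :=
  (parts_mul Fact.out (hK.commute ha) hK.ord ((hK.mem a).1 ha).2).1

theorem CentData.sum_fiber (hK : CentData p x K q) (f : G → ℂ) :
    ∑ g ∈ fiber p x, f g = ∑ a : K, f (x * (a : G)) := by
  have hp : p.Prime := Fact.out
  refine Finset.sum_bij' (fun g hg => (⟨pPrimePartOf p g, (hK.mem _).2
      ⟨Subgroup.mem_centralizer_singleton_iff.2
      (((congrArg (fun t => Commute t (pPrimePartOf p g)) (mem_fiber.1 hg)).mp
        (commute_pPartOf_pPrimePartOf g)).eq.symm),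
      not_dvd_orderOf_pPrimePartOf hp g⟩⟩ : K))
    (fun a _ => x * (a : G)) ?_ ?_ ?_ ?_ ?_
  · intro g _; exact Finset.mem_univ _
  · intro a _; exact mem_fiber.2 (hK.pPartOf_mul a.2)
  · intro g hg
    show x * pPrimePartOf p g = g
    conv_rhs => rw [← pPartOf_mul_pPrimePartOf hp g, mem_fiber.1 hg]
  · intro a _
    exact Subtype.ext (parts_mul hp (hK.commute a.2) hK.ord ((hK.mem _).1 a.2).2).2
  · intro g hg
    show f g = f (x * pPrimePartOf p g)
    congr 1
    conv_lhs => rw [← pPartOf_mul_pPrimePartOf hp g, mem_fiber.1 hg]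

theorem CentData.classInner_sect (hK : CentData p x K q) {ψ : G → ℂ}
    (hψ : Cfsg.IsClassFunction G ψ) :
    Cfsg.classInner (sect p x) ψ =
      ((q : ℂ) * Nat.card K)⁻¹ * ∑ a : K, conj (ψ (x * (a : G))) := by
  have hψc : Cfsg.IsClassFunction G (fun g => conj (ψ g)) := fun g k => by simp only [hψ g k]
  have h1 : ∑ g, sect p x g * conj (ψ g) =
      (((Subgroup.centralizer ({x} : Set G)).index : ℕ) : ℂ) * ∑ a : K, conj (ψ (x * (a : G))) := by
    calc ∑ g, sect p x g * conj (ψ g)
        = ∑ g ∈ Finset.univ.filter (fun g => IsConj x (pPartOf p g)), conj (ψ g) := by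
          simp only [sect, ite_mul, one_mul, zero_mul, Finset.sum_filter]
      _ = ∑ u ∈ Finset.univ.filter (fun u => IsConj x u), ∑ g ∈ fiber p u, conj (ψ g) := by
          rw [← Finset.sum_fiberwise_of_maps_to (t := Finset.univ.filter (fun u => IsConj x u))
            (g := pPartOf p) (fun g hg => by simpa using hg) (fun g => conj (ψ g))]
          refine Finset.sum_congr rfl fun u hu => Finset.sum_congr ?_ fun _ _ => rfl
          ext g
          simp only [Finset.mem_filter, Finset.mem_univ, true_and, mem_fiber] at hu ⊢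
          exact ⟨fun h => h.2, fun h => ⟨h ▸ hu, h⟩⟩
      _ = ∑ u ∈ Finset.univ.filter (fun u => IsConj x u), ∑ g ∈ fiber p x, conj (ψ g) := by
          refine Finset.sum_congr rfl fun u hu => ?_
          obtain ⟨c, rfl⟩ := isConj_iff.1 (Finset.mem_filter.1 hu).2
          exact sum_fiber_conj hψc c x
      _ = _ := by
          rw [Finset.sum_const, nsmul_eq_mul, hK.sum_fiber]
          congr 2
          rw [← Fintype.card_subtype, ← Nat.card_eq_fintype_card, Char.card_isConj_eq_index]
  have hG : (Nat.card G : ℂ) = ((q : ℂ) * Nat.card K) *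
      (((Subgroup.centralizer ({x} : Set G)).index : ℕ) : ℂ) := by
    rw [← Subgroup.card_mul_index (Subgroup.centralizer ({x} : Set G)), hK.card]
    push_cast; ring
  have hi : (((Subgroup.centralizer ({x} : Set G)).index : ℕ) : ℂ) ≠ 0 :=
    Nat.cast_ne_zero.2 Subgroup.index_ne_zero_of_finite
  rw [Cfsg.classInner, h1, hG]
  field_simp

theorem CentData.q_ne_zero (hK : CentData p x K q) : (q : ℂ) ≠ 0 := by
  have h := hK.card
  have : Nat.card (Subgroup.centralizer ({x} : Set G)) ≠ 0 := Nat.card_pos.ne'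
  exact Nat.cast_ne_zero.2 (fun h0 => this (by rw [h, h0, zero_mul]))

theorem CentData.sect_mul (hK : CentData p x K q) {a : G} (ha : a ∈ K) :
    sect p x (x * a) = 1 := if_pos (by rw [hK.pPartOf_mul ha])

theorem CentData.classInner_self (hK : CentData p x K q) :
    Cfsg.classInner (sect p x) (sect p x) = (q : ℂ)⁻¹ := by
  rw [hK.classInner_sect isClassFunction_sect, Finset.sum_congr rfl fun a _ => by
    rw [hK.sect_mul a.2, map_one]]
  simp only [Finset.sum_const, nsmul_eq_mul, mul_one, Finset.card_univ, ← Nat.card_eq_fintype_card]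
  have h1 : (Nat.card K : ℂ) ≠ 0 := Nat.cast_ne_zero.2 Nat.card_pos.ne'
  field_simp

variable {M : Ideal Cfsg.AlgInt}

/-- Values of the principal block on the section. -/
theorem CentData.principal_values (hK : CentData p x K q) (hM : Cfsg.IsPModular p M) :
    (∑ᶠ χ ∈ Cfsg.principalBlock M G, (χ : G → ℂ) x * conj ((χ : G → ℂ) x) = (q : ℂ)) ∧
      ∀ χ ∈ Cfsg.principalBlock M G, ∀ a ∈ K, (χ : G → ℂ) (x * a) = (χ : G → ℂ) x := by
  set H := Subgroup.centralizer ({x} : Set G) with hHdef
  have hH : ∀ c : G, c ∈ H ↔ x * c = c * x := fun c => by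
    rw [hHdef, Subgroup.mem_centralizer_singleton_iff]; exact eq_comm
  obtain ⟨k, hk⟩ := hK.ord
  have hP : IsPGroup p (Subgroup.zpowers x) :=
    IsPGroup.of_card (n := k) (by rw [Nat.card_zpowers, hk])
  have hH' : ∀ c : G, c ∈ H ↔ ∀ u ∈ Subgroup.zpowers x, u * c = c * u := by
    intro c
    rw [hH]
    exact ⟨fun h u ⟨i, hi⟩ => hi ▸ ((show Commute x c from h).zpow_left i).eq,
      fun h => h x (Subgroup.mem_zpowers x)⟩
  have hind := inducing_principalBlock (G := G) hM hP hH'
  haveI := hK.normal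
  have hKH : ∀ a ∈ K, a ∈ H := fun a ha => ((hK.mem a).1 ha).1
  have hcardK : Nat.card (K.subgroupOf H) = Nat.card K :=
    Nat.card_congr (Subgroup.subgroupOfEquivOfLe fun a ha => hKH a ha).toEquiv
  have hidxK : ∃ k, (K.subgroupOf H).index = p ^ k := by
    obtain ⟨m, hm⟩ := hK.pow
    refine ⟨m, ?_⟩
    have h1 := Subgroup.card_mul_index (K.subgroupOf H)
    rw [hcardK, hK.card, hm, mul_comm] at h1
    exact Nat.eq_of_mul_eq_mul_right Nat.card_pos h1
  have hS : ∑ᶠ ψ ∈ Cfsg.principalBlock M H, (ψ : H → ℂ) 1 * conj ((ψ : H → ℂ) 1) = (q : ℂ) := by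
    have h1 := blockCoeff_principalBlock_of_complement hM (K.subgroupOf H) (hcardK ▸ hK.coprime)
      hidxK (1 : H)
    rw [if_pos (one_mem _), Cfsg.blockCoeff, inv_mul_eq_iff_eq_mul₀
      (Nat.cast_ne_zero.2 Nat.card_pos.ne'), hcardK, hK.card] at h1
    rw [h1]
    push_cast
    have : (Nat.card K : ℂ) ≠ 0 := Nat.cast_ne_zero.2 Nat.card_pos.ne'
    field_simp
  have hsec : ∀ a b : H, ¬ p ∣ orderOf a → ¬ p ∣ orderOf b →
      ∑ᶠ χ ∈ Cfsg.principalBlock M G, (χ : G → ℂ) (x * (a : G)) *
        conj ((χ : G → ℂ) (x * (b : G))) = (q : ℂ) := by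
    intro a b ha hb
    rw [section_identity hM hK.ord hH (isPBlock_principalBlock M) ha hb, hind, ← hS]
    refine finsum_congr fun ψ => finsum_congr fun hψ => ?_
    have hr : ∀ c : H, ¬ p ∣ orderOf c → (ψ : H → ℂ) c = (ψ : H → ℂ) 1 := fun c hc =>
      BlockChar.const_of_hasNormalPComplement hM hK.compl hψ hc
    rw [hr a ha, hr b hb]
  have h11 : ∑ᶠ χ ∈ Cfsg.principalBlock M G, (χ : G → ℂ) x * conj ((χ : G → ℂ) x) = (q : ℂ) := by
    have hp : p.Prime := Fact.out
    simpa using hsec 1 1 (by simpa using hp.ne_one) (by simpa using hp.ne_one)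
  refine ⟨h11, fun χ hχ a ha => ?_⟩
  set S := (Set.toFinite (Cfsg.principalBlock M G)).toFinset
  have hp : p.Prime := Fact.out
  let a' : H := ⟨a, hKH a ha⟩
  have ha' : ¬ p ∣ orderOf a' := by rw [← Subgroup.orderOf_coe]; exact ((hK.mem a).1 ha).2
  have h1' : ¬ p ∣ orderOf (1 : H) := by simpa using hp.ne_one
  have e1 := hsec a' a' ha' ha'
  have e2 := hsec a' 1 ha' h1'
  have e3 := hsec 1 a' h1' ha'
  have e4 := hsec 1 1 h1' h1'
  simp only [finsum_mem_eq_finite_toFinset_sum _ (Set.toFinite _), OneMemClass.coe_one, mul_one]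
    at e1 e2 e3 e4
  have hz : ∑ φ ∈ S, Complex.normSq ((φ : G → ℂ) (x * a) - (φ : G → ℂ) x) = 0 := by
    have : ∑ φ ∈ S, ((φ : G → ℂ) (x * a) - (φ : G → ℂ) x) *
        conj ((φ : G → ℂ) (x * a) - (φ : G → ℂ) x) = 0 := by
      simp only [map_sub, sub_mul, mul_sub, Finset.sum_sub_distrib]
      rw [e1, e2, e3, e4]; ring
    simp only [Complex.mul_conj] at this
    exact_mod_cast this
  exact sub_eq_zero.1 (Complex.normSq_eq_zero.1 ((Finset.sum_eq_zero_iff_of_nonneg
    fun φ _ => Complex.normSq_nonneg _).1 hz χ ((Set.toFinite _).mem_toFinset.2 hχ)))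

/-- The expansion of the section indicator. -/
theorem CentData.classInner_sect_irr (hK : CentData p x K q) (hM : Cfsg.IsPModular p M)
    (χ : Cfsg.IrrCharacter G) :
    Cfsg.classInner (sect p x) (χ : G → ℂ) =
      if χ ∈ Cfsg.principalBlock M G then (q : ℂ)⁻¹ * conj ((χ : G → ℂ) x) else 0 := by
  obtain ⟨hsum, hval⟩ := hK.principal_values hM
  have hin : ∀ φ ∈ Cfsg.principalBlock M G,
      Cfsg.classInner (sect p x) (φ : G → ℂ) = (q : ℂ)⁻¹ * conj ((φ : G → ℂ) x) := by
    intro φ hφ
    rw [hK.classInner_sect (Char.isClassFunction_of_isIrr φ.2),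
      Finset.sum_congr rfl fun a _ => by rw [hval φ hφ a a.2]]
    simp only [Finset.sum_const, nsmul_eq_mul, Finset.card_univ, ← Nat.card_eq_fintype_card]
    have h1 : (Nat.card K : ℂ) ≠ 0 := Nat.cast_ne_zero.2 Nat.card_pos.ne'
    field_simp
  split_ifs with hχ
  · exact hin χ hχ
  set f : Cfsg.IrrCharacter G → ℂ := fun φ => Cfsg.classInner (sect p x) (φ : G → ℂ) with hf
  have hall : ∑ φ, f φ * conj (f φ) = (q : ℂ)⁻¹ := by
    rw [← hK.classInner_self, Char.classInner_eq_sum (isClassFunction_sect (p := p) (x := x))]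
    exact Finset.sum_congr rfl fun φ _ => by rw [hf, Char.classInner_conj_symm]
  set S := (Set.toFinite (Cfsg.principalBlock M G)).toFinset with hS
  have hpart : ∑ φ ∈ S, f φ * conj (f φ) = (q : ℂ)⁻¹ := by
    rw [finsum_mem_eq_finite_toFinset_sum _ (Set.toFinite _)] at hsum
    rw [Finset.sum_congr rfl (g := fun φ : Cfsg.IrrCharacter G =>
      (q : ℂ)⁻¹ * (q : ℂ)⁻¹ * ((φ : G → ℂ) x * conj ((φ : G → ℂ) x))) fun φ hφ => ?_,
      ← Finset.mul_sum, hsum]
    · have := hK.q_ne_zero
      field_simp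
    · rw [hf]
      simp only
      rw [hin φ ((Set.toFinite _).mem_toFinset.1 hφ), map_mul, map_inv₀, map_natCast,
        Complex.conj_conj]
      ring
  have hrest : ∑ φ ∈ Sᶜ, f φ * conj (f φ) = 0 := by
    have := Finset.sum_add_sum_compl S (fun φ => f φ * conj (f φ))
    rw [hpart, hall] at this
    simpa using this
  have h : ∑ φ ∈ Sᶜ, Complex.normSq (f φ) = 0 := by
    simp only [Complex.mul_conj] at hrest
    exact_mod_cast hrest
  exact Complex.normSq_eq_zero.1 ((Finset.sum_eq_zero_iff_of_nonneg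
    fun φ _ => Complex.normSq_nonneg _).1 h χ (Finset.mem_compl.2
      (fun hm => hχ ((Set.toFinite _).mem_toFinset.1 hm))))

/-- The section indicator as a combination of the principal block. -/
theorem CentData.sect_eq (hK : CentData p x K q) (hM : Cfsg.IsPModular p M) (g : G) :
    sect p x g = ∑ χ ∈ (Set.toFinite (Cfsg.principalBlock M G)).toFinset,
      (q : ℂ)⁻¹ * conj ((χ : G → ℂ) x) * (χ : G → ℂ) g := by
  have h := congrFun (Char.classFun_expansion (isClassFunction_sect (p := p) (x := x))) g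
  rw [h, Finset.sum_apply]
  rw [← Finset.sum_filter_add_sum_filter_not Finset.univ
    (fun χ => χ ∈ Cfsg.principalBlock M G)]
  rw [Finset.sum_eq_zero (s := Finset.univ.filter fun χ => ¬ χ ∈ Cfsg.principalBlock M G)
    fun χ hχ => by
      rw [Pi.smul_apply, hK.classInner_sect_irr hM, if_neg (Finset.mem_filter.1 hχ).2, zero_smul],
    add_zero]
  refine Finset.sum_congr (by ext; simp) fun χ hχ => ?_
  rw [Pi.smul_apply, smul_eq_mul, hK.classInner_sect_irr hM,
    if_pos ((Set.toFinite _).mem_toFinset.1 hχ)]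

end Cfsg.Agent.PairPSolv
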