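import Cfsg.Agent.Layer.PConstraint
import Cfsg.Prelude.Def_Transfer

/-!
# `p`-solvable groups generated by two elements of order `p`, abelian Sylow subgroups
-/

set_option autoImplicit false

namespace Cfsg.Agent.PairPSolv

open Subgroup Cfsg

universe u

variable {G : Type u} [Group G] [Finite G] {p : ℕ} [hp : Fact p.Prime]

/-- A `p`-regular element of a `p`-group is trivial. -/
theorem eq_one_of_regular {H : Type u} [Group H] (hH : IsPGroup p H) {a : H}
    (ha : ¬ p ∣ orderOf a) : a = 1 := by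
  obtain ⟨k, hk⟩ := (IsPGroup.iff_orderOf.1 hH) a
  rcases k with _ | k
  · simpa using hk
  · exact absurd (hk ▸ dvd_pow_self p k.succ_ne_zero) ha

/-- In a `p`-solvable group generated by two elements of order `p`, with abelian Sylow
`p`-subgroups, every `p`-th power is `p`-regular, and a `p`-regular element dies in the quotient by
the `p'`-core. -/
theorem quotient_data {x y : G}
    (hsolv : IsPSolvable p ↥(Subgroup.closure ({x, y} : Set G)))
    (hab : ∀ A : Subgroup G, IsPGroup p A → ∀ a ∈ A, ∀ b ∈ A, a * b = b * a)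
    (hx : orderOf x = p) (hy : orderOf y = p) :
    (∀ z : ↥(Subgroup.closure ({x, y} : Set G)), ¬ p ∣ orderOf (z : G) →
        z ∈ Cfsg.pPrimeCore p ↥(Subgroup.closure ({x, y} : Set G))) ∧
      ∀ z ∈ Subgroup.closure ({x, y} : Set G), ¬ p ∣ orderOf (z ^ p) := by
  set H := Subgroup.closure ({x, y} : Set G) with hH
  let X : H := ⟨x, subset_closure (by simp)⟩
  let Y : H := ⟨y, subset_closure (by simp)⟩
  set N := Cfsg.pPrimeCore p H with hN
  set f := QuotientGroup.mk' N with hf
  have hfs : Function.Surjective f := QuotientGroup.mk'_surjective N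
  have hQs : IsPSolvable p (H ⧸ N) := Layer.isPSolvable_of_surjective hsolv hfs
  have hsc := Layer.pCoreSelfCentral_of_isPSolvable hQs Core.pPrimeCore_quotient_eq_bot
  have hcommT' : ∀ T : Sylow p (H ⧸ N), (T : Subgroup (H ⧸ N)) ≤
      centralizer (Cfsg.pCore p (H ⧸ N) : Set (H ⧸ N)) := by
    intro T a ha
    obtain ⟨S, hS⟩ := Sylow.mapSurjective_surjective hfs p T
    rw [mem_centralizer_iff]
    intro b hb
    have hbT : b ∈ (T : Subgroup (H ⧸ N)) := Core.pCore_le_sylow T hb
    rw [← hS] at ha hbT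
    obtain ⟨a', ha', rfl⟩ := ha
    obtain ⟨b', hb', rfl⟩ := hbT
    have := hab ((S : Subgroup H).map H.subtype) (S.2.map H.subtype) (b' : G) ⟨b', hb', rfl⟩
      (a' : G) ⟨a', ha', rfl⟩
    rw [← map_mul, ← map_mul]
    exact congrArg f (Subtype.ext this)
  have hcommQ : ∀ T : Sylow p (H ⧸ N), (T : Subgroup (H ⧸ N)) ≤ Cfsg.pCore p (H ⧸ N) :=
    fun T => (hcommT' T).trans hsc
  have hmem : ∀ z : H, orderOf z = p → f z ∈ Cfsg.pCore p (H ⧸ N) := by
    intro z hz
    have hpg : IsPGroup p (Subgroup.zpowers z) :=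
      IsPGroup.of_card (n := 1) (by rw [Nat.card_zpowers, hz, pow_one])
    obtain ⟨T, hT⟩ := (hpg.map f).exists_le_sylow
    exact hcommQ T (hT ⟨z, mem_zpowers z, rfl⟩)
  have hXo : orderOf X = p := by rw [← Subgroup.orderOf_coe]; exact hx
  have hYo : orderOf Y = p := by rw [← Subgroup.orderOf_coe]; exact hy
  have htop : ∀ q : H ⧸ N, q ∈ Cfsg.pCore p (H ⧸ N) := by
    intro q
    obtain ⟨z, rfl⟩ := hfs q
    have : z ∈ (Cfsg.pCore p (H ⧸ N)).comap f := by
      have hle : H ≤ ((Cfsg.pCore p (H ⧸ N)).comap f).map H.subtype := by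
        refine (Subgroup.closure_le _).2 ?_
        rintro w (rfl | rfl)
        · exact ⟨X, hmem X hXo, rfl⟩
        · exact ⟨Y, hmem Y hYo, rfl⟩
      obtain ⟨z', hz', he⟩ := hle z.2
      rwa [Subtype.ext he] at hz'
    exact this
  have hone : ∀ z : H, ¬ p ∣ orderOf (z : G) → f z = 1 := by
    intro z hz
    have hreg : ¬ p ∣ orderOf (⟨f z, htop (f z)⟩ : Cfsg.pCore p (H ⧸ N)) := by
      rw [← Subgroup.orderOf_coe]
      intro hd
      apply hz
      rw [Subgroup.orderOf_coe]
      exact hd.trans (orderOf_map_dvd f z)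
    exact congrArg Subtype.val (eq_one_of_regular Core.pCore_isPGroup hreg)
  have hcommT : ∀ a : H ⧸ N, a ∈ centralizer (Cfsg.pCore p (H ⧸ N) : Set (H ⧸ N)) := fun a => by
    obtain ⟨T, hT⟩ := Core.pCore_isPGroup (p := p) (G := H ⧸ N) |>.exists_le_sylow
    exact hcommT' T (hT (htop a))
  refine ⟨fun z hz => (QuotientGroup.eq_one_iff z).1 (hone z hz), fun z hz => ?_⟩
  have hcommC : ∀ a b : H ⧸ N, a * b = b * a := fun a b =>
    (mem_centralizer_iff.1 ((hcommT a)) b (htop b)).symm
  have hexp : ∀ q : H ⧸ N, q ^ p = 1 := by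
    intro q
    obtain ⟨z, rfl⟩ := hfs q
    let E : Subgroup (H ⧸ N) :=
      { carrier := {q | q ^ p = 1}
        one_mem' := one_pow p
        mul_mem' := fun {a b} ha hb => by
          show (a * b) ^ p = 1
          rw [(show Commute a b from hcommC a b).mul_pow, show a ^ p = 1 from ha,
            show b ^ p = 1 from hb, one_mul]
        inv_mem' := fun {a} ha => by
          show a⁻¹ ^ p = 1
          rw [inv_pow, show a ^ p = 1 from ha, inv_one] }
    have hle : H ≤ (E.comap f).map H.subtype := by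
      refine (Subgroup.closure_le _).2 ?_
      rintro w (rfl | rfl)
      · exact ⟨X, by show f X ^ p = 1; rw [← map_pow, orderOf_dvd_iff_pow_eq_one.1 hXo.dvd, map_one], rfl⟩
      · exact ⟨Y, by show f Y ^ p = 1; rw [← map_pow, orderOf_dvd_iff_pow_eq_one.1 hYo.dvd, map_one], rfl⟩
    obtain ⟨z', hz', he⟩ := hle z.2
    rw [Subtype.ext he] at hz'
    exact hz'
  have hzN : (⟨z, hz⟩ : H) ^ p ∈ N := (QuotientGroup.eq_one_iff _).1 (by
    show f _ = 1
    rw [map_pow]; exact hexp _)
  intro hd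
  have h1 : orderOf (z ^ p) ∣ Nat.card N := by
    have := orderOf_dvd_natCard (⟨_, hzN⟩ : N)
    rwa [← Subgroup.orderOf_coe, ← Subgroup.orderOf_coe, SubmonoidClass.coe_pow] at this
  exact hp.out.coprime_iff_not_dvd.1 (Core.coprime_card_pPrimeCore (G := H)).symm (hd.trans h1)

/-- If two elements of order `p` generate a `p`-solvable group with abelian Sylow `p`-subgroups,
at most one power of the second makes the product `p`-regular. -/
theorem pair_unique {x y : G}
    (hsolv : IsPSolvable p ↥(Subgroup.closure ({x, y} : Set G)))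
    (hab : ∀ A : Subgroup G, IsPGroup p A → ∀ a ∈ A, ∀ b ∈ A, a * b = b * a)
    (hy : orderOf y = p) {j : ℕ} (h1 : ¬ p ∣ orderOf (x * y)) (h2 : ¬ p ∣ orderOf (x * y ^ j))
    (hx : orderOf x = p) : y ^ j = y := by
  obtain ⟨hone', -⟩ := quotient_data hsolv hab hx hy
  set H := Subgroup.closure ({x, y} : Set G) with hH
  let X : H := ⟨x, subset_closure (by simp)⟩
  let Y : H := ⟨y, subset_closure (by simp)⟩
  set N := Cfsg.pPrimeCore p H with hN
  set f := QuotientGroup.mk' N with hf
  have hone : ∀ z : H, ¬ p ∣ orderOf (z : G) → f z = 1 := fun z hz =>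
    (QuotientGroup.eq_one_iff z).2 (hone' z hz)
  have hYo : orderOf Y = p := by rw [← Subgroup.orderOf_coe]; exact hy
  have e1 : f X * f Y = 1 := by rw [← map_mul]; exact hone (X * Y) h1
  have e2 : f X * f (Y ^ j) = 1 := by rw [← map_mul]; exact hone (X * Y ^ j) (by simpa [X, Y] using h2)
  have e3 : f (Y ^ j) = f Y := mul_left_cancel (e2.trans e1.symm)
  have e4 : Y⁻¹ * Y ^ j ∈ N := QuotientGroup.eq.1 e3.symm
  have e5 : Y⁻¹ * Y ^ j = 1 := by
    have h5 : (⟨_, e4⟩ : N) ^ p = 1 := by
      apply Subtype.ext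
      push_cast
      rw [(Commute.pow_right (Commute.inv_left (Commute.refl Y)) j).mul_pow, inv_pow, ← pow_mul,
        mul_comm j, pow_mul, ← hYo, pow_orderOf_eq_one, one_pow, inv_one, one_mul]
    have h6 := Nat.dvd_gcd (orderOf_dvd_natCard (⟨_, e4⟩ : N)) (orderOf_dvd_of_pow_eq_one h5)
    rw [Nat.Coprime.gcd_eq_one Core.coprime_card_pPrimeCore, Nat.dvd_one, orderOf_eq_one_iff] at h6
    exact congrArg Subtype.val h6
  have := congrArg Subtype.val (inv_mul_eq_one.1 e5)
  simpa [Y] using this.symm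

end Cfsg.Agent.PairPSolv
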