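import Cfsg.Agent.PairPSolv.Section
import Cfsg.Agent.PairPSolv.Pair

/-!
# Counting products of conjugates of an element of order `p`
-/

set_option autoImplicit false

namespace Cfsg.Agent.PairPSolv

open scoped Classical
open Cfsg.Agent Cfsg.Agent.Blocks

universe u

variable {G : Type u} [Group G] [Fintype G] {p : ℕ} [Fact p.Prime] {x : G}

/-- If all pairs of elements of order `p` generate `p`-solvable groups and all nontrivial powers of
`x` are conjugate to `x`, at most one `(p-1)`-th of the products `x^a x` are `p`-regular. -/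
theorem card_regular_mul_le (hxo : orderOf x = p)
    (hab : ∀ A : Subgroup G, IsPGroup p A → ∀ a ∈ A, ∀ b ∈ A, a * b = b * a)
    (hc : ∀ u v : G, orderOf u = p → orderOf v = p →
      Cfsg.IsPSolvable p ↥(Subgroup.closure ({u, v} : Set G)))
    (hrat : ∀ b, 1 ≤ b → b < p → ∃ n : G, n * x * n⁻¹ = x ^ b) :
    (p - 1) * (Finset.univ.filter fun a : G => ¬ p ∣ orderOf (x * (a * x * a⁻¹))).card ≤
      Nat.card G := by
  choose! n hn using hrat
  set T := Finset.univ.filter fun a : G => ¬ p ∣ orderOf (x * (a * x * a⁻¹)) with hT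
  have hconjo : ∀ a : G, orderOf (a * x * a⁻¹) = p := fun a => by
    rw [← MulAut.conj_apply, MulEquiv.orderOf_eq]; exact hxo
  have hy : ∀ (a : G) (b : ℕ), 1 ≤ b → b < p →
      (a * n b) * x * (a * n b)⁻¹ = (a * x * a⁻¹) ^ b := by
    intro a b h1 h2
    rw [conj_pow, show (a * n b) * x * (a * n b)⁻¹ = a * (n b * x * (n b)⁻¹) * a⁻¹ by group, hn b h1 h2]
  have hkey : ∀ (a a' : G) (b b' : ℕ), a ∈ T → a' ∈ T → 1 ≤ b → b < p → 1 ≤ b' → b' < p →
      (a * x * a⁻¹) ^ b = (a' * x * a'⁻¹) ^ b' → b = b' := by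
    intro a a' b b' ha ha' hb hbp hb' hbp' he
    set y := a * x * a⁻¹ with hydef
    set y' := a' * x * a'⁻¹ with hydef'
    obtain ⟨m, hm⟩ := exists_pow_eq_self_of_coprime (n := b') (x := y') (by
      rw [hconjo]
      exact ((Fact.out : p.Prime).coprime_iff_not_dvd.2 (Nat.not_dvd_of_pos_of_lt hb' hbp')).symm)
    rw [← he, ← pow_mul] at hm
    have e1 : y ^ (b * m) = y := pair_unique (hc x y hxo (hconjo a)) hab (hconjo a)
      (Finset.mem_filter.1 ha).2 (by rw [hm]; exact (Finset.mem_filter.1 ha').2) hxo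
    rw [e1] at hm
    rw [← hm] at he
    have := pow_inj_mod.1 he
    rwa [hconjo, Nat.mod_eq_of_lt hbp, Nat.mod_eq_of_lt hbp'] at this
  have h := Finset.card_le_card_of_injOn (s := T ×ˢ Finset.Ico 1 p)
    (t := (Finset.univ : Finset G)) (fun z => z.1 * n z.2) (fun z _ => Finset.mem_univ _)
    (by
      rintro ⟨a, b⟩ hab' ⟨a', b'⟩ hab'' he
      simp only [Finset.mem_coe, Finset.mem_product, Finset.mem_Ico] at hab' hab''
      simp only at he
      have h1 := hy a b hab'.2.1 hab'.2.2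
      rw [he, hy a' b' hab''.2.1 hab''.2.2] at h1
      have hbb := hkey a a' b b' hab'.1 hab''.1 hab'.2.1 hab'.2.2 hab''.2.1 hab''.2.2 h1.symm
      subst hbb
      rw [mul_left_inj] at he
      rw [he])
  rw [Finset.card_product, Nat.card_Ico, Finset.card_univ, ← Nat.card_eq_fintype_card] at h
  rw [mul_comm]
  exact h

variable {M : Ideal Cfsg.AlgInt} {K : Subgroup G} {q : ℕ}

/-- The class-algebra form of the count of products in the section of `x`. -/
theorem CentData.sum_sect_mul (hK : CentData p x K q) (hM : Cfsg.IsPModular p M) :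
    ∑ a : G, sect p x (x * (a * x * a⁻¹)) = (Nat.card G : ℂ) * (q : ℂ)⁻¹ *
      ∑ χ ∈ (Set.toFinite (Cfsg.principalBlock M G)).toFinset,
        (starRingEnd ℂ) ((χ : G → ℂ) x) * (χ : G → ℂ) x ^ 2 / (χ : G → ℂ) 1 := by
  simp only [hK.sect_eq hM]
  rw [Finset.sum_comm, Finset.mul_sum]
  refine Finset.sum_congr rfl fun χ _ => ?_
  rw [← Finset.mul_sum]
  have h1 := Char.sum_conj_mul χ.2 x x
  have h2 : ∑ a : G, (χ : G → ℂ) (x * (a * x * a⁻¹)) = ∑ a : G, (χ : G → ℂ) (a * x * a⁻¹ * x) :=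
    Finset.sum_congr rfl fun a _ =>
      Char.classFun_mul_comm (Char.isClassFunction_of_isIrr χ.2) _ _
  rw [h2]
  have h0 : (χ : G → ℂ) 1 ≠ 0 := Char.IsIrr.one_ne_zero χ.2
  have hq := hK.q_ne_zero
  field_simp
  linear_combination ((starRingEnd ℂ) ((χ : G → ℂ) x)) * h1

end Cfsg.Agent.PairPSolv
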