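import Cfsg.Agent.Fusion.Transfer
import Cfsg.Agent.FusSys.RankTwoCore
import Cfsg.Agent.FusSys.Terminating
import Cfsg.Agent.QdFree.SL2Facts
import Cfsg.Agent.Blocks.PPart

/-!
# Groups with cyclic Sylow `p`-subgroups: centralisers and normalisers of elements of order `p`
-/

set_option autoImplicit false

namespace Cfsg.Agent.PairPSolv

open Subgroup Cfsg

universe u

variable {G : Type u} [Group G] [Finite G] {p : ℕ} [hp : Fact p.Prime]

/-- All Sylow `p`-subgroups are cyclic. -/
def CyclicSyl (p : ℕ) (G : Type u) [Group G] : Prop := ∀ A : Subgroup G, IsPGroup p A → IsCyclic A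

theorem cyclicSyl_of_sylow (P : Sylow p G) (hP : IsCyclic (P : Subgroup G)) : CyclicSyl p G := by
  intro A hA
  obtain ⟨T, hT⟩ := hA.exists_le_sylow
  haveI : IsCyclic (T : Subgroup G) := isCyclic_of_surjective _ (P.equiv T).surjective
  exact isCyclic_of_injective (Subgroup.inclusion hT) (Subgroup.inclusion_injective hT)

theorem CyclicSyl.comm (h : CyclicSyl p G) {A : Subgroup G} (hA : IsPGroup p A) {a b : G}
    (ha : a ∈ A) (hb : b ∈ A) : a * b = b * a := by
  haveI := h A hA
  haveI : IsMulCommutative A := IsCyclic.isMulCommutative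
  exact congrArg Subtype.val (mul_comm' (⟨a, ha⟩ : A) ⟨b, hb⟩)

theorem CyclicSyl.subgroup (h : CyclicSyl p G) (H : Subgroup G) : CyclicSyl p H := by
  intro A hA
  haveI := h _ (hA.map H.subtype)
  exact isCyclic_of_surjective _ (A.equivMapOfInjective H.subtype H.subtype_injective).symm.surjective

theorem CyclicSyl.quotient (h : CyclicSyl p G) (N : Subgroup G) [N.Normal] :
    CyclicSyl p (G ⧸ N) := by
  intro A hA
  obtain ⟨T, hT⟩ := hA.exists_le_sylow
  obtain ⟨S, hS⟩ := Sylow.mapSurjective_surjective (QuotientGroup.mk'_surjective N) p T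
  haveI := h (S : Subgroup G) S.2
  haveI : IsCyclic ((S : Subgroup G).map (QuotientGroup.mk' N)) :=
    isCyclic_of_surjective _ ((QuotientGroup.mk' N).subgroupMap_surjective S)
  have hT' : A ≤ (S : Subgroup G).map (QuotientGroup.mk' N) := by
    intro a ha
    have := hT ha
    rw [← hS] at this
    exact this
  exact isCyclic_of_injective (Subgroup.inclusion hT') (Subgroup.inclusion_injective hT')

/-- In a cyclic `p`-group every element of order dividing `p` lies in the subgroup of order `p`. -/
theorem CyclicSyl.mem_zpowers (h : CyclicSyl p G) {A : Subgroup G} (hA : IsPGroup p A) {x a : G}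
    (hx : x ∈ A) (hxo : orderOf x = p) (ha : a ∈ A) (hap : a ^ p = 1) : a ∈ zpowers x := by
  classical
  haveI := h A hA
  have := Fintype.ofFinite A
  set S := (Finset.univ : Finset A).filter fun b => b ^ p = 1 with hS
  have hcard : S.card ≤ p := IsCyclic.card_pow_eq_one_le hp.out.pos
  have hxo' : orderOf (⟨x, hx⟩ : A) = p := by rw [← Subgroup.orderOf_coe]; exact hxo
  set T := (Finset.range p).image fun i => (⟨x, hx⟩ : A) ^ i with hT
  have hTcard : T.card = p := by
    rw [hT, Finset.card_image_of_injOn, Finset.card_range]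
    rw [Finset.coe_range]
    exact hxo' ▸ pow_injOn_Iio_orderOf
  have hTS : T ⊆ S := by
    intro b hb
    obtain ⟨i, -, rfl⟩ := Finset.mem_image.1 hb
    refine Finset.mem_filter.2 ⟨Finset.mem_univ _, ?_⟩
    rw [← pow_mul, mul_comm, pow_mul, orderOf_dvd_iff_pow_eq_one.1 hxo'.dvd, one_pow]
  have hmem : (⟨a, ha⟩ : A) ∈ T := by
    rw [Finset.eq_of_subset_of_card_le hTS (by omega)]
    exact Finset.mem_filter.2 ⟨Finset.mem_univ _, Subtype.ext (by simpa using hap)⟩
  obtain ⟨i, -, hi⟩ := Finset.mem_image.1 hmem
  have := congrArg Subtype.val hi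
  simp only [SubmonoidClass.coe_pow] at this
  exact this ▸ pow_mem (Subgroup.mem_zpowers x) i

/-- Normalising a cyclic `p`-subgroup and centralising its elements of order `p` means
centralising it, if it is a Sylow subgroup. -/
theorem CyclicSyl.centralize (h : CyclicSyl p G) (T : Sylow p G) {x g : G}
    (hxT : x ∈ (T : Subgroup G)) (hxo : orderOf x = p)
    (hg : g ∈ normalizer ((T : Subgroup G) : Set G)) (hgx : g * x = x * g) :
    g ∈ centralizer ((T : Subgroup G) : Set G) := by
  have hpart : ∀ z : G, z ∈ normalizer ((T : Subgroup G) : Set G) →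
      (∃ k, orderOf z = p ^ k) → z ∈ centralizer ((T : Subgroup G) : Set G) := by
    rintro z hz ⟨k, hk⟩
    have hzT : z ∈ (T : Subgroup G) := by
      have hZ : IsPGroup p (zpowers z) := IsPGroup.of_card (n := k) (by rw [Nat.card_zpowers, hk])
      have hle : zpowers z ≤ normalizer ((T : Subgroup G) : Set G) := Subgroup.zpowers_le.2 hz
      have hsup := hZ.to_sup_of_normal_right' T.2 hle
      have := T.3 hsup le_sup_right
      exact this.le (mem_sup_left (Subgroup.mem_zpowers z))
    exact mem_centralizer_iff.2 fun t ht => h.comm T.2 ht hzT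
  set g' := Blocks.pPrimePartOf p g with hg'
  have hg'N : g' ∈ normalizer ((T : Subgroup G) : Set G) := pow_mem hg _
  have hg'x : g' * x = x * g' := ((show Commute g x from hgx).pow_left _).eq
  haveI := h (T : Subgroup G) T.2
  letI : CommGroup ↥(T : Subgroup G) :=
    { (inferInstance : Group ↥(T : Subgroup G)) with
      mul_comm := fun a b => Subtype.ext (h.comm T.2 a.2 b.2) }
  let δ : MulAut ↥(T : Subgroup G) :=
    (T : Subgroup G).normalizerMonoidHom ⟨g', hg'N⟩
  have hδ : (orderOf δ).Coprime p := by
    refine ((hp.out.coprime_iff_not_dvd.2 ?_).symm : _)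
    intro hd
    refine Blocks.not_dvd_orderOf_pPrimePartOf hp.out g (hd.trans ?_)
    refine (orderOf_map_dvd _ _).trans ?_
    rw [← Subgroup.orderOf_coe]
  have hδ1 : δ = 1 := FusSys.eq_one_of_fix_omega T.2 hδ fun a ha => by
    have ha' : (a : G) ^ p = 1 := by rw [← SubmonoidClass.coe_pow, ha]; rfl
    obtain ⟨i, hi⟩ := h.mem_zpowers T.2 hxT hxo a.2 ha'
    apply Subtype.ext
    show g' * (a : G) * g'⁻¹ = (a : G)
    rw [← show x ^ i = (a : G) from hi, ((show Commute g' x from hg'x).zpow_right i).eq,
      mul_inv_cancel_right]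
  have hg'C : g' ∈ centralizer ((T : Subgroup G) : Set G) := mem_centralizer_iff.2 fun t ht => by
    have h1 : δ ⟨t, ht⟩ = ⟨t, ht⟩ := by rw [hδ1]; rfl
    have h2 : g' * t * g'⁻¹ = t := congrArg Subtype.val h1
    exact (mul_inv_eq_iff_eq_mul.1 h2).symm
  rw [← Blocks.pPartOf_mul_pPrimePartOf hp.out g]
  exact mul_mem (hpart _ (pow_mem hg _) (Blocks.orderOf_pPartOf hp.out g)) hg'C

/-- The centraliser of an element of order `p` has a normal `p`-complement. -/
theorem CyclicSyl.hasNormalPComplement_centralizer (h : CyclicSyl p G) {x : G}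
    (hxo : orderOf x = p) : HasNormalPComplement p ↥(centralizer ({x} : Set G)) := by
  set C := centralizer ({x} : Set G)
  obtain ⟨T⟩ : Nonempty (Sylow p C) := inferInstance
  let X : C := ⟨x, mem_centralizer_singleton_iff.2 rfl⟩
  have hXT : X ∈ (T : Subgroup C) := by
    have hZ : IsPGroup p (zpowers X) :=
      IsPGroup.of_card (n := 1) (by rw [Nat.card_zpowers, ← Subgroup.orderOf_coe, pow_one]; exact hxo)
    have hle : zpowers X ≤ normalizer ((T : Subgroup C) : Set C) := by
      refine Subgroup.zpowers_le.2 (centralizer_le_normalizer _ ?_)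
      refine mem_centralizer_iff.2 fun t _ => Subtype.ext ?_
      exact mem_centralizer_singleton_iff.1 t.2
    have := T.3 (hZ.to_sup_of_normal_right' T.2 hle) le_sup_right
    exact this.le (mem_sup_left (Subgroup.mem_zpowers X))
  refine Fusion.hasNormalPComplement_of_normalizer_le_centralizer (P := T) fun g hg => ?_
  refine (h.subgroup C).centralize T hXT (by rw [← Subgroup.orderOf_coe]; exact hxo) hg ?_
  exact Subtype.ext (mem_centralizer_singleton_iff.1 g.2)

theorem isPSolvable_of_coprime {H : Type u} [Group H] [Finite H] (hH : (Nat.card H).Coprime p) :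
    IsPSolvable p H := by
  haveI : Subsingleton (⊥ : Subgroup H) := ⟨fun a b => Subtype.ext (by
    rw [Subgroup.mem_bot.1 a.2, Subgroup.mem_bot.1 b.2])⟩
  exact FusSys.isPSolvable_of_normal H ⊥ (FusSys.isPSolvable_of_subsingleton _)
    (Or.inr (by rwa [Subgroup.index_bot]))

theorem isPSolvable_of_hasNormalPComplement {H : Type u} [Group H] [Finite H]
    (hH : HasNormalPComplement p H) : IsPSolvable p H := by
  obtain ⟨P, N, hN, hc⟩ := hH
  obtain ⟨k, hk⟩ := IsPGroup.iff_card.1 P.2
  refine FusSys.isPSolvable_of_normal H N (isPSolvable_of_coprime ?_) (Or.inl ⟨k, ?_⟩)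
  · refine (hp.out.coprime_iff_not_dvd.2 ?_).symm
    rw [← hc.index_eq_card]
    exact P.not_dvd_index
  · rw [hc.symm.index_eq_card, hk]

/-- The normaliser of a subgroup of order `p` is `p`-solvable. -/
theorem CyclicSyl.isPSolvable_normalizer (h : CyclicSyl p G) {x : G} (hxo : orderOf x = p) :
    IsPSolvable p ↥(normalizer ((zpowers x : Subgroup G) : Set G)) := by
  set X := zpowers x
  set N := normalizer (X : Set G)
  let C : Subgroup N := X.normalizerMonoidHom.ker
  have hCle : ∀ g : N, g ∈ C → (g : G) ∈ centralizer ({x} : Set G) := by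
    intro g hg
    have : X.normalizerMonoidHom g = 1 := hg
    have h2 : X.normalizerMonoidHom g ⟨x, Subgroup.mem_zpowers x⟩ = ⟨x, Subgroup.mem_zpowers x⟩ := by
      rw [this]; rfl
    have h3 : (g : G) * x * (g : G)⁻¹ = x := congrArg Subtype.val h2
    exact mem_centralizer_singleton_iff.2 (mul_inv_eq_iff_eq_mul.1 h3)
  let ι : C →* ↥(centralizer ({x} : Set G)) :=
    MonoidHom.mk' (fun g => ⟨((g : N) : G), hCle g g.2⟩) (fun a b => Subtype.ext rfl)
  have hι : Function.Injective ι := fun a b e =>
    Subtype.ext (Subtype.ext (congrArg (fun t : ↥(centralizer ({x} : Set G)) => (t : G)) e))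
  have hCs : IsPSolvable p C := isPSolvable_of_hasNormalPComplement
    (Fusion.hasNormalPComplement_of_injective ι hι (h.hasNormalPComplement_centralizer hxo))
  refine FusSys.isPSolvable_of_normal N C hCs (Or.inr ?_)
  refine (hp.out.coprime_iff_not_dvd.2 fun hd => ?_).symm
  have hdvd : C.index ∣ p - 1 := by
    rw [Subgroup.index_ker]
    refine (Subgroup.card_subgroup_dvd_card _).trans ?_
    rw [IsCyclic.card_mulAut, Nat.card_zpowers, hxo, Nat.totient_prime hp.out]
  have := Nat.le_of_dvd (by have := hp.out.two_le; omega) (hd.trans hdvd)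
  have := hp.out.two_le
  omega

/-- Extensions of `p`-solvable groups. -/
theorem isPSolvable_of_quotient {H : Type u} [Group H] [Finite H] (N : Subgroup H) [N.Normal]
    (hN : IsPSolvable p N) (hQ : IsPSolvable p (H ⧸ N)) : IsPSolvable p H := by
  obtain ⟨n, S, h0, hl, hm, hn, hi⟩ := hQ
  set f := QuotientGroup.mk' N
  suffices hs : ∀ i : Fin (n + 1), IsPSolvable p ↥((S i).comap f) by
    have := hs (Fin.last n)
    rw [hl, Subgroup.comap_top] at this
    exact FusSys.isPSolvable_congr Subgroup.topEquiv this
  intro i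
  induction i using Fin.induction with
  | zero =>
    rw [h0, MonoidHom.comap_bot, QuotientGroup.ker_mk']
    exact hN
  | succ i ih =>
    have hle : (S i.castSucc).comap f ≤ (S i.succ).comap f :=
      Subgroup.comap_mono (hm i.castSucc_le_succ)
    haveI := hn i.castSucc
    haveI : (((S i.castSucc).comap f).subgroupOf ((S i.succ).comap f)).Normal := inferInstance
    refine FusSys.isPSolvable_of_normal _ (((S i.castSucc).comap f).subgroupOf ((S i.succ).comap f))
      (FusSys.isPSolvable_congr (Subgroup.subgroupOfEquivOfLe hle).symm ih) ?_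
    have hidx : (((S i.castSucc).comap f).subgroupOf ((S i.succ).comap f)).index =
        (S i.castSucc).relIndex (S i.succ) := by
      show ((S i.castSucc).comap f).relIndex _ = _
      rw [Subgroup.relIndex_comap, Subgroup.map_comap_eq_self_of_surjective
        (QuotientGroup.mk'_surjective N)]
    rw [hidx]
    exact hi i

end Cfsg.Agent.PairPSolv
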