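import Mathlib.Analysis.Normed.Group.Basic
import Mathlib.Data.Real.Basic
import Mathlib.Algebra.Order.BigOperators.Group.Finset
import Mathlib.Algebra.BigOperators.Ring.Finset
import Mathlib.Tactic.Linarith
import Mathlib.Tactic.FieldSimp
import Mathlib.Tactic.Ring

/-!
# The inequality for groups with cyclic Sylow subgroups
-/

set_option autoImplicit false

namespace Cfsg.Agent.PairPSolv

/-- The coefficient used in the final inequality. -/
noncomputable def rho (p q : ℕ) : ℝ :=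
  if p = 3 then (if q = 3 then 1 / 2 else 5 / 6) else ((p : ℝ) - 1) / 2

theorem rho_nonneg {p q : ℕ} (hp : 3 ≤ p) : 0 ≤ rho p q := by
  have : (3 : ℝ) ≤ p := by exact_mod_cast hp
  unfold rho
  split_ifs <;> norm_num
  linarith

/-- The reserve left by `rho`. -/
theorem rho_gap {p q e : ℕ} (hp : p = 3 ∨ 5 ≤ p) (he : 2 ≤ e) (hq : q = p ∨ p * p ≤ q)
    (he' : e ≤ p - 1) :
    (p : ℝ) - 1 ≤ ((p : ℝ) - 2 - rho p q) * ((e : ℝ) * q - ((p : ℝ) - 1)) := by
  have he2 : (2 : ℝ) ≤ e := by exact_mod_cast he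
  rcases hp with rfl | hp5
  · have : e = 2 := by omega
    subst this
    unfold rho
    rcases hq with rfl | hq9
    · norm_num
    · have h9 : (9 : ℝ) ≤ q := by exact_mod_cast hq9
      rw [if_pos rfl, if_neg (by omega)]
      push_cast
      linarith
  · have hp5' : (5 : ℝ) ≤ p := by exact_mod_cast hp5
    have hpq : (p : ℝ) ≤ q := by
      rcases hq with rfl | h
      · exact le_rfl
      · exact_mod_cast le_trans (Nat.le_mul_self p) h
    unfold rho
    rw [if_neg (by omega)]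
    have h1 : (p : ℝ) + 1 ≤ (e : ℝ) * q - ((p : ℝ) - 1) := by nlinarith
    have h2 : (1 : ℝ) ≤ (p : ℝ) - 2 - ((p : ℝ) - 1) / 2 := by linarith
    nlinarith

/-- Each positive value is a small multiple of the degree. -/
theorem le_rho_mul {p q e : ℕ} {S : ℤ} {d : ℕ} (hp : p = 3 ∨ 5 ≤ p) (he : 2 ≤ e) (he' : e ≤ p - 1)
    (hq : q = p ∨ p * p ≤ q) (hS : 0 < S)
    (hsq : S ^ 2 ≤ ((p : ℤ) - 1) * ((e : ℤ) * q - ((p : ℤ) - 1)))
    (hgap : S + (p : ℤ) * e ≤ ((p : ℤ) - 1) * d)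
    (hbig : p < q → (q : ℤ) - ((p : ℤ) - 1) ≤ d) : (S : ℝ) ≤ rho p q * d := by
  have hgap' : (S : ℝ) + (p : ℝ) * e ≤ ((p : ℝ) - 1) * d := by exact_mod_cast hgap
  have hsq' : (S : ℝ) ^ 2 ≤ ((p : ℝ) - 1) * ((e : ℝ) * q - ((p : ℝ) - 1)) := by exact_mod_cast hsq
  have hS0 : (0 : ℝ) < S := by exact_mod_cast hS
  have he2 : (2 : ℝ) ≤ e := by exact_mod_cast he
  have hd0 : (0 : ℝ) ≤ d := Nat.cast_nonneg d
  rcases hp with rfl | hp5
  · have : e = 2 := by omega
    subst this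
    unfold rho
    rw [if_pos rfl]
    rcases hq with rfl | hq9
    · rw [if_pos rfl]
      have hS2 : S ≤ 2 := by
        push_cast at hsq
        by_contra hlt
        have h3 : (3 : ℤ) ≤ S := by omega
        have h9 := mul_le_mul h3 h3 (by norm_num) hS.le
        rw [← sq S] at h9
        linarith
      have : (S : ℝ) ≤ 2 := by exact_mod_cast hS2
      push_cast at hgap'
      linarith
    · rw [if_neg (by omega)]
      have hd : (q : ℝ) - 2 ≤ d := by
        have := hbig (by omega)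
        have h : (q : ℤ) - 2 ≤ d := by push_cast at this; linarith
        exact_mod_cast h
      have h9 : (9 : ℝ) ≤ q := by exact_mod_cast hq9
      push_cast at hsq'
      have h4 : (S : ℝ) ^ 2 ≤ (5 / 6 * (d : ℝ)) ^ 2 := by nlinarith
      nlinarith
  · have hp5' : (5 : ℝ) ≤ p := by exact_mod_cast hp5
    unfold rho
    rw [if_neg (by omega)]
    rcases hq with hq' | hq2
    · rw [hq'] at hsq'
      have hSe : (S : ℝ) ≤ (p : ℝ) * e := by
        have h1 : (S : ℝ) ^ 2 ≤ ((p : ℝ) - 1) * ((e : ℝ) * p) := by nlinarith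
        have h2 : ((p : ℝ) - 1) * ((e : ℝ) * p) ≤ ((p : ℝ) * e) ^ 2 := by nlinarith
        exact (pow_le_pow_iff_left₀ hS0.le (by positivity) two_ne_zero).1 (h1.trans h2)
      nlinarith
    · have hq25 : (25 : ℝ) ≤ q := by
        exact_mod_cast le_trans (Nat.mul_le_mul hp5 hp5) hq2
      have hq2' : (p : ℝ) * p ≤ q := by exact_mod_cast hq2
      have hd : (q : ℝ) - ((p : ℝ) - 1) ≤ d := by
        exact_mod_cast hbig (lt_of_lt_of_le (by nlinarith : p < p * p) hq2)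
      have he1 : (e : ℝ) ≤ (p : ℝ) - 1 := by
        have : e + 1 ≤ p := by omega
        have h : (e : ℝ) + 1 ≤ p := by exact_mod_cast this
        linarith
      have h1 : (S : ℝ) ^ 2 ≤ ((p : ℝ) - 1) ^ 2 * q := by nlinarith
      have h5p : 5 * (p : ℝ) ≤ q := by nlinarith
      have h2 : 4 * (q : ℝ) ≤ (d : ℝ) ^ 2 := by nlinarith
      have h3 : (S : ℝ) ^ 2 ≤ (((p : ℝ) - 1) / 2 * d) ^ 2 := by nlinarith
      have h4 : 0 ≤ ((p : ℝ) - 1) / 2 * d := mul_nonneg (by linarith) hd0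
      nlinarith

/-- The numerical contradiction. -/
theorem cyclic_contra {ι : Type*} (T : Finset ι) (d S : ι → ℝ) {p A B ρ : ℝ}
    (hd : ∀ i ∈ T, 0 < d i) (hρ : 0 ≤ ρ) (hp : 3 ≤ p) (hb : ∀ i ∈ T, 0 < S i → S i ≤ ρ * d i)
    (hsq : ∑ i ∈ T, S i ^ 2 = (p - 1) * A) (hlin : ∑ i ∈ T, S i * d i = -(p - 1))
    (hA : p - 1 ≤ (p - 2 - ρ) * A) (hB : (p - 2) * ((p - 1) * A) - (p - 1) ^ 2 ≤ B)
    (hcnt : B ≤ ∑ i ∈ T, S i ^ 3 / d i) : False := by
  have hle : ∀ i ∈ T, S i ^ 3 / d i ≤ ρ * S i ^ 2 := by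
    intro i hi
    rcases le_or_gt (S i) 0 with hn | hpos
    · refine le_trans (div_nonpos_of_nonpos_of_nonneg ?_ (hd i hi).le)
        (mul_nonneg hρ (sq_nonneg _))
      nlinarith [sq_nonneg (S i)]
    · rw [div_le_iff₀ (hd i hi)]
      nlinarith [sq_nonneg (S i), mul_le_mul_of_nonneg_left (hb i hi hpos) (sq_nonneg (S i))]
  have hlt : ∃ i ∈ T, S i ^ 3 / d i < ρ * S i ^ 2 := by
    by_contra hh
    simp only [not_exists, not_and, not_lt] at hh
    have : ∀ i ∈ T, 0 ≤ S i * d i := by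
      intro i hi
      refine mul_nonneg ?_ (hd i hi).le
      by_contra hneg
      rw [not_le] at hneg
      have h3 : S i ^ 3 < 0 := Odd.pow_neg ⟨1, rfl⟩ hneg
      have := mul_nonneg hρ (sq_nonneg (S i))
      have := div_neg_of_neg_of_pos h3 (hd i hi)
      linarith [hh i hi]
    linarith [Finset.sum_nonneg this]
  have hsum : ∑ i ∈ T, S i ^ 3 / d i < ∑ i ∈ T, ρ * S i ^ 2 := Finset.sum_lt_sum hle hlt
  rw [← Finset.mul_sum, hsq] at hsum
  have h1 : (p - 1) * (p - 1) ≤ (p - 1) * ((p - 2 - ρ) * A) :=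
    mul_le_mul_of_nonneg_left hA (by linarith)
  nlinarith

end Cfsg.Agent.PairPSolv
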