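import Cfsg.Agent.Char.Ortho
import Cfsg.Agent.Char.Linear

/-!
# A character with constant value on a nontrivial abelian subgroup, and the final inequality
-/

set_option autoImplicit false

namespace Cfsg.Agent.PairPSolv

open scoped ComplexConjugate Classical
open Cfsg.Agent

universe u

/-- A character constant off the identity on an abelian group `P ≠ 1`. -/
theorem exists_gap {A : Type u} [CommGroup A] [Fintype A] [Nontrivial A] {θ : A → ℂ}
    (hθ : Cfsg.IsCharacter A θ) {e : ℂ} (he : ∀ a : A, a ≠ 1 → θ a = e) :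
    ∃ k : ℕ, θ 1 - e = (Nat.card A : ℂ) * k := by
  obtain ⟨a, ha⟩ := exists_ne (1 : A)
  obtain ⟨ψ, hψ⟩ := Char.exists_irr_ne_at_one ha
  have h1' := Char.IsIrr.degree_one_of_comm ψ.2 mul_comm
  obtain ⟨g, hg⟩ := Char.isLinear_iff.1 ⟨Char.IsIrr.isCharacter ψ.2, h1'⟩
  have hne : ((Units.coeHom ℂ).comp g) ≠ 1 := fun h => hψ (by
    have := DFunLike.congr_fun h a
    rw [h1', congrFun hg a]
    simpa using this)
  have hsum : ∑ b : A, conj ((g b : ℂ)) = 0 := by
    rw [← map_sum]
    have := sum_hom_units_eq_zero ((Units.coeHom ℂ).comp g) hne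
    simp only [MonoidHom.coe_comp, Units.coeHom_apply, Function.comp_apply] at this
    rw [this, map_zero]
  obtain ⟨k, hk⟩ := Char.classInner_isCharacter_eq_natCast hθ (Char.isCharacter_hom g)
  refine ⟨k, ?_⟩
  rw [← hk, Cfsg.classInner, ← mul_assoc, mul_inv_cancel₀ Char.card_ne_zero, one_mul]
  have h1 : ∑ b : A, θ b * conj ((g b : ℂ)) =
      ∑ b : A, (e * conj ((g b : ℂ)) + if b = 1 then θ 1 - e else 0) := by
    refine Finset.sum_congr rfl fun b _ => ?_
    by_cases hb : b = 1
    · subst hb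
      rw [if_pos rfl, map_one, Units.val_one, map_one]
      ring
    · rw [if_neg hb, he b hb, add_zero]
  rw [h1, Finset.sum_add_distrib, ← Finset.mul_sum, hsum, mul_zero, zero_add, Finset.sum_ite_eq']
  simp

/-- The numerical contradiction. -/
theorem arith_contra {ι : Type*} (S : Finset ι) (d e : ι → ℝ) {q t : ℝ} (hq : 3 ≤ q)
    (hd : ∀ i ∈ S, 0 < d i) (hb : ∀ i ∈ S, e i ≤ q - 2) (hgap : ∀ i ∈ S, e i + q ≤ d i)
    (hsq : ∑ i ∈ S, e i ^ 2 = q - 1) (hlin : ∑ i ∈ S, e i * d i = -1)
    (ht : (q - 2) / 2 ≤ t) (hcnt : t ≤ ∑ i ∈ S, e i ^ 3 / d i) : False := by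
  set r : ℝ := (q - 2) / (2 * q - 2) with hr
  have hle : ∀ i ∈ S, e i ^ 3 / d i ≤ r * e i ^ 2 := by
    intro i hi
    have hden : 0 < 2 * q - 2 := by linarith
    have hr0 : 0 ≤ r := div_nonneg (by linarith) hden.le
    rcases le_or_gt (e i) 0 with hn | hpos
    · refine le_trans (div_nonpos_of_nonpos_of_nonneg ?_ (hd i hi).le)
        (mul_nonneg hr0 (sq_nonneg _))
      nlinarith [sq_nonneg (e i)]
    · rw [div_le_iff₀ (hd i hi)]
      have key : e i ≤ r * d i := by
        calc e i ≤ r * (e i + q) := by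
              rw [hr, div_mul_eq_mul_div, le_div_iff₀ hden]
              nlinarith [hb i hi]
          _ ≤ r * d i := mul_le_mul_of_nonneg_left (hgap i hi) hr0
      nlinarith [sq_nonneg (e i), mul_le_mul_of_nonneg_left key (sq_nonneg (e i))]
  have hlt : ∃ i ∈ S, e i ^ 3 / d i < r * e i ^ 2 := by
    by_contra hh
    simp only [not_exists, not_and, not_lt] at hh
    have : ∀ i ∈ S, 0 ≤ e i * d i := by
      intro i hi
      by_contra hneg
      rw [not_le] at hneg
      have he : e i < 0 := by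
        rcases lt_or_ge (e i) 0 with h | h
        · exact h
        · exact absurd (mul_nonneg h (hd i hi).le) (not_le.2 hneg)
      have h3 : e i ^ 3 < 0 := Odd.pow_neg ⟨1, rfl⟩ he
      have : 0 ≤ r * e i ^ 2 :=
        mul_nonneg (div_nonneg (by linarith) (by linarith)) (sq_nonneg _)
      have := div_neg_of_neg_of_pos h3 (hd i hi)
      linarith [hh i hi]
    linarith [Finset.sum_nonneg this]
  have hsum : ∑ i ∈ S, e i ^ 3 / d i < ∑ i ∈ S, r * e i ^ 2 := Finset.sum_lt_sum hle hlt
  rw [← Finset.mul_sum, hsq] at hsum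
  have : r * (q - 1) = (q - 2) / 2 := by
    have : (2 * q - 2) ≠ 0 := by linarith
    rw [hr, div_mul_eq_mul_div, div_eq_iff this]
    ring
  linarith

end Cfsg.Agent.PairPSolv
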