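import Cfsg.Agent.Char.Linear
import Cfsg.Agent.Char.Ortho
import Mathlib.NumberTheory.LegendreSymbol.AddCharacter
import Mathlib.Analysis.SpecialFunctions.Complex.CircleAddChar

/-!
# The powers of an element of prime order and the eigenvalues on it
-/

set_option autoImplicit false

namespace Cfsg.Agent.PairPSolv

open scoped ComplexConjugate
open Cfsg.Agent

universe u

variable {G : Type u} [Group G] {p : ℕ} [hp : Fact p.Prime]

/-- The power of `x` with exponent a residue. -/
def pw (x : G) (c : ZMod p) : G := x ^ c.val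

variable {x : G}

theorem pw_add (hx : orderOf x = p) (a b : ZMod p) : pw x (a + b) = pw x a * pw x b := by
  simp only [pw, ← pow_add]
  rw [ZMod.val_add]
  exact pow_eq_pow_iff_modEq.2 (by rw [hx]; exact Nat.mod_modEq _ _)

theorem pw_zero : pw x (0 : ZMod p) = 1 := by simp [pw]

theorem pw_one : pw x (1 : ZMod p) = x := by simp [pw, ZMod.val_one]

theorem pw_mul (hx : orderOf x = p) (a b : ZMod p) : pw (pw x a) b = pw x (a * b) := by
  simp only [pw, ← pow_mul]
  rw [ZMod.val_mul]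
  exact pow_eq_pow_iff_modEq.2 (by rw [hx]; exact (Nat.mod_modEq _ _).symm)

theorem orderOf_pw (hx : orderOf x = p) (c : (ZMod p)ˣ) : orderOf (pw x (c : ZMod p)) = p := by
  have hc : (c : ZMod p).val ≠ 0 := fun h => c.ne_zero ((ZMod.val_eq_zero _).1 h)
  have hlt : (c : ZMod p).val < orderOf x := hx.symm ▸ ZMod.val_lt _
  have h0 : pw x (c : ZMod p) ≠ 1 := pow_ne_one_of_lt_orderOf hc hlt
  refine orderOf_eq_prime ?_ h0
  rw [pw, ← pow_mul, mul_comm, pow_mul, orderOf_dvd_iff_pow_eq_one.1 hx.dvd, one_pow]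

theorem pw_injective (hx : orderOf x = p) : Function.Injective (pw x : ZMod p → G) := by
  intro a b h
  have h1 := pow_inj_mod.1 h
  rw [hx, Nat.mod_eq_of_lt (ZMod.val_lt a), Nat.mod_eq_of_lt (ZMod.val_lt b)] at h1
  exact ZMod.val_injective p h1

theorem mem_zpowers_iff_pw (hx : orderOf x = p) {g : G} :
    g ∈ Subgroup.zpowers x ↔ ∃ c : ZMod p, pw x c = g := by
  constructor
  · rintro ⟨i, rfl⟩
    refine ⟨(i : ZMod p), ?_⟩
    show x ^ ((i : ZMod p)).val = x ^ i
    rw [← zpow_natCast, zpow_eq_zpow_iff_modEq, hx, ← ZMod.intCast_eq_intCast_iff, Int.cast_natCast,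
      ZMod.natCast_zmod_val]
  · rintro ⟨c, rfl⟩
    exact pow_mem (Subgroup.mem_zpowers x) _

theorem pw_conj (k : G) (c : ZMod p) : pw (k * x * k⁻¹) c = k * pw x c * k⁻¹ := conj_pow

theorem centralizer_pw (hx : orderOf x = p) (c : (ZMod p)ˣ) :
    Subgroup.centralizer ({pw x (c : ZMod p)} : Set G) = Subgroup.centralizer ({x} : Set G) := by
  ext g
  simp only [Subgroup.mem_centralizer_singleton_iff]
  constructor
  · intro h
    have := ((show Commute g (pw x (c : ZMod p)) from h).pow_right ((c⁻¹ : (ZMod p)ˣ) : ZMod p).val).eq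
    rwa [show pw x (c : ZMod p) ^ ((c⁻¹ : (ZMod p)ˣ) : ZMod p).val = x by
      show pw (pw x (c : ZMod p)) ((c⁻¹ : (ZMod p)ˣ) : ZMod p) = x
      rw [pw_mul hx, Units.mul_inv, pw_one]] at this
  · exact fun h => ((show Commute g x from h).pow_right _).eq

/-- The exponents `c` with `x^c` conjugate to `x`. -/
def autExp (hx : orderOf x = p) : Subgroup (ZMod p)ˣ where
  carrier := {c | IsConj x (pw x (c : ZMod p))}
  one_mem' := by
    show IsConj x (pw x ((1 : (ZMod p)ˣ) : ZMod p))
    rw [Units.val_one, pw_one]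
  mul_mem' {a b} ha hb := by
    show IsConj x (pw x ((a * b : (ZMod p)ˣ) : ZMod p))
    obtain ⟨k, hk⟩ := isConj_iff.1 ha
    refine hb.trans (isConj_iff.2 ⟨k, ?_⟩)
    rw [← pw_conj, hk, pw_mul hx, Units.val_mul]
  inv_mem' {a} ha := by
    show IsConj x (pw x ((a⁻¹ : (ZMod p)ˣ) : ZMod p))
    obtain ⟨k, hk⟩ := isConj_iff.1 ha
    refine IsConj.symm (isConj_iff.2 ⟨k, ?_⟩)
    rw [← pw_conj, hk, pw_mul hx, Units.mul_inv, pw_one]

theorem mem_autExp {hx : orderOf x = p} {c : (ZMod p)ˣ} :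
    c ∈ autExp hx ↔ IsConj x (pw x (c : ZMod p)) := Iff.rfl

theorem isConj_pw_iff (hx : orderOf x = p) (c d : (ZMod p)ˣ) :
    IsConj (pw x (c : ZMod p)) (pw x (d : ZMod p)) ↔ c⁻¹ * d ∈ autExp hx := by
  constructor
  · intro h
    obtain ⟨k, hk⟩ := isConj_iff.1 h
    refine isConj_iff.2 ⟨k, ?_⟩
    have := congrArg (fun g => pw g ((c⁻¹ : (ZMod p)ˣ) : ZMod p)) hk
    simp only [pw_conj, pw_mul hx, Units.mul_inv, pw_one] at this
    rw [this, Units.val_mul, mul_comm]
  · intro h
    obtain ⟨k, hk⟩ := isConj_iff.1 h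
    refine isConj_iff.2 ⟨k, ?_⟩
    have := congrArg (fun g => pw g (c : ZMod p)) hk
    simp only [pw_conj, pw_mul hx] at this
    rw [this, ← Units.val_mul, mul_comm (c⁻¹ * d) c, mul_inv_cancel_left]

open scoped Classical in
theorem card_conj_pw (hx : orderOf x = p) (d : (ZMod p)ˣ) :
    (Finset.univ.filter fun c : (ZMod p)ˣ => IsConj (pw x (c : ZMod p)) (pw x (d : ZMod p))).card =
      Nat.card (autExp hx) := by
  rw [← Fintype.card_subtype, ← Nat.card_eq_fintype_card]
  refine Nat.card_congr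
    { toFun := fun c => ⟨c.1⁻¹ * d, (isConj_pw_iff hx c.1 d).1 c.2⟩
      invFun := fun e => ⟨d * (e.1 : (ZMod p)ˣ)⁻¹, (isConj_pw_iff hx _ d).2 (by
        have h : (d * (e.1 : (ZMod p)ˣ)⁻¹)⁻¹ * d = e.1 := by
          rw [mul_inv_rev, inv_inv, inv_mul_cancel_right]
        rw [h]; exact e.2)⟩
      left_inv := fun c => Subtype.ext (by
        show d * (c.1⁻¹ * d)⁻¹ = c.1
        rw [mul_inv_rev, inv_inv, mul_inv_cancel_left])
      right_inv := fun e => Subtype.ext (by
        show (d * (e.1 : (ZMod p)ˣ)⁻¹)⁻¹ * d = e.1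
        rw [mul_inv_rev, inv_inv, inv_mul_cancel_right]) }

open scoped Classical in
theorem sum_zmod_eq (f : ZMod p → ℂ) : ∑ a, f a = f 0 + ∑ c : (ZMod p)ˣ, f (c : ZMod p) := by
  rw [← Finset.add_sum_erase Finset.univ f (Finset.mem_univ 0)]
  congr 1
  refine (Finset.sum_bij (fun (c : (ZMod p)ˣ) _ => (c : ZMod p)) ?_ ?_ ?_ ?_).symm
  · exact fun c _ => Finset.mem_erase.2 ⟨c.ne_zero, Finset.mem_univ _⟩
  · exact fun a _ b _ h => Units.ext h
  · exact fun a ha => ⟨Units.mk0 a (Finset.mem_erase.1 ha).1, Finset.mem_univ _, rfl⟩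
  · exact fun c _ => rfl

variable [Finite G]

/-- The sum of a character over the generators of `⟨x⟩`, by eigenvalues. -/
theorem exists_split {χ : G → ℂ} (hχ : Cfsg.IsCharacter G χ) (hx : orderOf x = p) :
    ∃ d m : ℕ, χ 1 = d ∧ ∑ c : (ZMod p)ˣ, χ (pw x (c : ZMod p)) = (p : ℂ) * m - d ∧ m ≤ d ∧
      (m = d → χ x = χ 1) ∧ (m < d → m + Nat.card (autExp hx) ≤ d) := by
  classical
  have := Fintype.ofFinite G
  obtain ⟨d, hd⟩ := Char.IsChar.degree hχ
  let ι : Multiplicative (ZMod p) →* G :=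
    MonoidHom.mk' (fun a => pw x a.toAdd) (fun a b => by rw [toAdd_mul, pw_add hx])
  let θ : Multiplicative (ZMod p) → ℂ := fun a => χ (pw x a.toAdd)
  have hθ : Cfsg.IsCharacter (Multiplicative (ZMod p)) θ := Char.isCharacter_comp ι hχ
  obtain ⟨ψ, hψ⟩ : ∃ ψ : AddChar (ZMod p) ℂ, ψ.IsPrimitive :=
    ⟨ZMod.stdAddChar, ZMod.isPrimitive_stdAddChar p⟩
  have hlin : ∀ t : ZMod p, Cfsg.IsCharacter (Multiplicative (ZMod p))
      (fun a => ψ (t * a.toAdd)) := by
    intro t
    let g : Multiplicative (ZMod p) →* ℂ :=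
      { toFun := fun a => ψ (t * a.toAdd)
        map_one' := by rw [toAdd_one, mul_zero, AddChar.map_zero_eq_one]
        map_mul' := fun a b => by rw [toAdd_mul, mul_add, AddChar.map_add_eq_mul] }
    have := Char.isCharacter_hom g.toHomUnits
    simpa [g] using this
  choose m hm using fun t : ZMod p => Char.classInner_isCharacter_eq_natCast hθ (hlin t)
  have hcard : (Nat.card (Multiplicative (ZMod p)) : ℂ) = p := by
    rw [Nat.card_congr Multiplicative.toAdd, Nat.card_zmod]
  have hp0 : (p : ℂ) ≠ 0 := Nat.cast_ne_zero.2 hp.out.ne_zero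
  have hmt : ∀ t : ZMod p, (p : ℂ) * m t = ∑ a : ZMod p, χ (pw x a) * conj (ψ (t * a)) := by
    intro t
    rw [← hm t, Cfsg.classInner, hcard, ← mul_assoc, mul_inv_cancel₀ hp0, one_mul]
    exact Fintype.sum_equiv Multiplicative.toAdd _ _ fun a => rfl
  have hinv : ∀ (t : ZMod p) (b : (ZMod p)ˣ), b ∈ autExp hx → m (t * (b : ZMod p)) = m t := by
    intro t b hb
    have h : (p : ℂ) * m (t * (b : ZMod p)) = (p : ℂ) * m t := by
      rw [hmt, hmt]
      refine Fintype.sum_equiv (Units.mulLeft b) _ _ fun a => ?_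
      show χ (pw x a) * conj (ψ (t * (b : ZMod p) * a)) =
        χ (pw x ((b : ZMod p) * a)) * conj (ψ (t * ((b : ZMod p) * a)))
      rw [mul_assoc t]
      congr 1
      obtain ⟨k, hk⟩ := isConj_iff.1 hb
      rw [← pw_mul hx, ← hk, pw_conj]
      exact (Char.isClassFunction_of_isCharacter hχ _ k).symm
    exact_mod_cast mul_left_cancel₀ hp0 h
  have htot : ∑ t : ZMod p, m t = d := by
    have h : (p : ℂ) * ((∑ t : ZMod p, m t : ℕ) : ℂ) = (p : ℂ) * d := by
      push_cast
      rw [Finset.mul_sum, Finset.sum_congr rfl fun t _ => hmt t, Finset.sum_comm]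
      simp only [← Finset.mul_sum, ← map_sum]
      rw [Finset.sum_eq_single 0]
      · rw [pw_zero, hd, AddChar.sum_mulShift 0 hψ, if_pos rfl, ZMod.card]
        simp [mul_comm]
      · intro a _ ha
        rw [AddChar.sum_mulShift a hψ, if_neg ha]
        simp
      · exact fun h => absurd (Finset.mem_univ _) h
    exact_mod_cast mul_left_cancel₀ hp0 h
  have hS : ∑ c : (ZMod p)ˣ, χ (pw x (c : ZMod p)) = (p : ℂ) * m 0 - d := by
    rw [hmt 0, sum_zmod_eq, pw_zero, hd]
    simp [AddChar.map_zero_eq_one]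
  have hle : m 0 ≤ d := htot ▸ Finset.single_le_sum (fun t _ => Nat.zero_le (m t)) (Finset.mem_univ 0)
  refine ⟨d, m 0, hd, hS, hle, fun he => ?_, fun hlt => ?_⟩
  · -- all values equal the degree
    have h1 : ∑ c : (ZMod p)ˣ, ((χ 1).re - (χ (pw x (c : ZMod p))).re) = 0 := by
      rw [Finset.sum_sub_distrib, Finset.sum_const, nsmul_eq_mul, ← Complex.re_sum, hS, he, hd,
        Finset.card_univ, ZMod.card_units_eq_totient, Nat.totient_prime hp.out]
      have h2 : ((p - 1 : ℕ) : ℝ) = (p : ℝ) - 1 := by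
        rw [Nat.cast_sub hp.out.one_le, Nat.cast_one]
      simp [h2]
      ring
    have h2 := (Finset.sum_eq_zero_iff_of_nonneg fun c _ => sub_nonneg.2
      ((Complex.re_le_norm _).trans (Char.IsChar.norm_le hχ _))).1 h1 1 (Finset.mem_univ _)
    rw [Units.val_one, pw_one, hd] at h2
    simp only [Complex.natCast_re] at h2
    have hn := Char.IsChar.norm_le hχ x
    rw [hd] at hn ⊢
    simp only [Complex.natCast_re] at hn
    have hre : (χ x).re = d := by linarith
    have hsq := Complex.sq_norm (χ x)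
    rw [Complex.normSq_apply, hre] at hsq
    have him : (χ x).im = 0 := by nlinarith [norm_nonneg (χ x)]
    exact Complex.ext (by simpa using hre) (by simpa using him)
  · obtain ⟨t, ht0, ht⟩ : ∃ t : ZMod p, t ≠ 0 ∧ 0 < m t := by
      by_contra hall
      simp only [not_exists, not_and, Nat.pos_iff_ne_zero, ne_eq, not_not] at hall
      have := Finset.sum_eq_single (f := m) (0 : ZMod p) (fun b _ hb => hall b hb)
        (fun h => absurd (Finset.mem_univ _) h)
      omega
    set T := (Finset.univ : Finset (autExp hx)).image fun b => t * ((b.1 : (ZMod p)ˣ) : ZMod p)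
    have hT : T.card = Nat.card (autExp hx) := by
      rw [Finset.card_image_of_injective, Finset.card_univ, Nat.card_eq_fintype_card]
      intro a b h
      exact Subtype.ext (Units.ext (mul_left_cancel₀ ht0 h))
    have h0T : (0 : ZMod p) ∉ T := by
      intro h
      obtain ⟨b, -, hb⟩ := Finset.mem_image.1 h
      exact mul_ne_zero ht0 (b.1 : (ZMod p)ˣ).ne_zero hb
    have h1 : T.card ≤ ∑ s ∈ T, m s := by
      rw [Finset.card_eq_sum_ones]
      refine Finset.sum_le_sum fun s hs => ?_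
      obtain ⟨b, -, rfl⟩ := Finset.mem_image.1 hs
      rw [hinv t b.1 b.2]
      exact ht
    have h2 : ∑ s ∈ insert 0 T, m s ≤ d := htot ▸ Finset.sum_le_univ_sum_of_nonneg (fun s => Nat.zero_le _)
    rw [Finset.sum_insert h0T] at h2
    omega

end Cfsg.Agent.PairPSolv
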