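import Cfsg.Agent.PairPSolv.Count
import Cfsg.Agent.PairPSolv.Cyclic
import Cfsg.Agent.PairPSolv.Powers
import Cfsg.Agent.PairPSolv.CyclicArith
import Cfsg.Agent.Blocks.Modular
import Cfsg.Agent.BlockChar.PrincipalPairs
import Cfsg.Agent.BlockChar.Cyclic.OrdStatement

/-!
# A simple group with cyclic Sylow `p`-subgroups has a pair of elements of order `p` generating a
group which is not `p`-solvable
-/

set_option autoImplicit false

namespace Cfsg.Agent.PairPSolv

open scoped ComplexConjugate Classical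
open Cfsg.Agent Cfsg.Agent.Blocks

universe u

variable {G : Type u} [Group G] [Fintype G] {p : ℕ} [hp : Fact p.Prime]

/-- Class algebra with two chosen elements. -/
theorem CentData.sum_sect_mul₂ {M : Ideal Cfsg.AlgInt} {K : Subgroup G} {q : ℕ} {x : G}
    (hK : CentData p x K q) (hM : Cfsg.IsPModular p M) (u v : G) :
    ∑ a : G, sect p x (u * (a * v * a⁻¹)) = (Nat.card G : ℂ) * (q : ℂ)⁻¹ *
      ∑ χ ∈ (Set.toFinite (Cfsg.principalBlock M G)).toFinset,
        conj ((χ : G → ℂ) x) * (χ : G → ℂ) u * (χ : G → ℂ) v / (χ : G → ℂ) 1 := by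
  simp only [hK.sect_eq hM]
  rw [Finset.sum_comm, Finset.mul_sum]
  refine Finset.sum_congr rfl fun χ _ => ?_
  rw [← Finset.mul_sum]
  have h1 := Char.sum_conj_mul χ.2 v u
  have h2 : ∑ a : G, (χ : G → ℂ) (u * (a * v * a⁻¹)) = ∑ a : G, (χ : G → ℂ) (a * v * a⁻¹ * u) :=
    Finset.sum_congr rfl fun a _ =>
      Char.classFun_mul_comm (Char.isClassFunction_of_isIrr χ.2) _ _
  rw [h2]
  have h0 : (χ : G → ℂ) 1 ≠ 0 := Char.IsIrr.one_ne_zero χ.2
  have hq := hK.q_ne_zero
  field_simp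
  linear_combination (conj ((χ : G → ℂ) x)) * h1

/-- In a nonabelian simple group a nontrivial irreducible character is neither linear nor equal to
its degree outside the identity. -/
theorem simple_char [IsSimpleGroup G] (hG : ¬ IsMulCommutative G) (χ : Cfsg.IrrCharacter G)
    (hne : χ ≠ triv G) : (χ : G → ℂ) 1 ≠ 1 ∧ ∀ x : G, x ≠ 1 → (χ : G → ℂ) x ≠ (χ : G → ℂ) 1 := by
  have key : ¬ ∀ g : G, (χ : G → ℂ) g = (χ : G → ℂ) 1 := by
    intro hall
    have h0 := Char.classInner_irrChar χ (triv G)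
    rw [if_neg hne, Cfsg.classInner] at h0
    have hc1 : ∀ g : G, (χ : G → ℂ) g * conj ((triv G : G → ℂ) g) = (χ : G → ℂ) 1 := by
      intro g
      show (χ : G → ℂ) g * conj (1 : ℂ) = _
      rw [map_one, mul_one, hall g]
    rw [Finset.sum_congr rfl fun g _ => hc1 g, Finset.sum_const, nsmul_eq_mul, Finset.card_univ,
      ← Nat.card_eq_fintype_card, ← mul_assoc, inv_mul_cancel₀ Char.card_ne_zero, one_mul] at h0
    exact Char.IsIrr.one_ne_zero χ.2 h0
  refine ⟨fun h1 => ?_, fun x hx he => ?_⟩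
  · obtain ⟨f, hf⟩ := Char.IsChar.exists_hom (Char.IsIrr.isCharacter χ.2) h1
    rcases IsSimpleGroup.eq_bot_or_eq_top_of_normal f.ker inferInstance with h | h
    · refine hG ⟨⟨fun a b => ?_⟩⟩
      apply (f.ker_eq_bot_iff).1 h
      rw [map_mul, map_mul, mul_comm]
    · refine key fun g => ?_
      rw [congrFun hf g, congrFun hf 1]
      have hg : f g = 1 := MonoidHom.mem_ker.1 (h ▸ Subgroup.mem_top g)
      simp [hg]
  · obtain ⟨n, ρ, hρ, hχρ⟩ := χ.2
    have hker : ρ x = 1 := by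
      refine (Char.character_eq_finrank_iff ρ x).1 ?_
      rw [congrFun hχρ x, he, ← congrFun hχρ 1, ρ.char_one]
    rcases IsSimpleGroup.eq_bot_or_eq_top_of_normal ρ.ker inferInstance with h | h
    · have : x ∈ ρ.ker := hker
      rw [h, Subgroup.mem_bot] at this
      exact hx this
    · refine key fun g => ?_
      rw [← congrFun hχρ g, ← congrFun hχρ 1]
      have hg : ρ g = ρ 1 := by
        rw [map_one]
        exact MonoidHom.mem_ker.1 (h ▸ Subgroup.mem_top g)
      show LinearMap.trace ℂ _ (ρ g) = LinearMap.trace ℂ _ (ρ 1)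
      rw [hg]

/-- The bound on the degrees in the principal block when `p² ∣ |G|`. -/
theorem degree_bound [IsSimpleGroup G] (hG : ¬ IsMulCommutative G) {M : Ideal Cfsg.AlgInt}
    (hM : Cfsg.IsPModular p M) (P : Sylow p G) (hc : CyclicSyl p G) {x : G} (hxo : orderOf x = p)
    (hxP : x ∈ (P : Subgroup G)) (hq : p < Nat.card (P : Subgroup G)) {χ : Cfsg.IrrCharacter G}
    (hχ : χ ∈ Cfsg.principalBlock M G) (hne : χ ≠ triv G) {d : ℕ} (hd : (χ : G → ℂ) 1 = d) :
    (d : ℤ) ≤ Nat.card (autExp hxo) ∨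
      (Nat.card (P : Subgroup G) : ℤ) - ((p : ℤ) - 1) ≤ d := by
  set D := (P : Subgroup G) with hD
  set q := Nat.card D with hqdef
  have hD1 : D ≠ ⊥ := fun h => by
    rw [hqdef, h, Subgroup.card_bot] at hq
    have := hp.out.two_le
    omega
  have hmax := BlockChar.isMaximalBrauerPair_principal hM P
  have hT : ∀ g : G, g ∈ Subgroup.normalizer (D : Set G) ↔ g ∈ Subgroup.normalizer (D : Set G) ∧
      Cfsg.StabilizesBlock (Subgroup.centralizer (D : Set G))
        (Cfsg.principalBlock M ↥(Subgroup.centralizer (D : Set G))) g :=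
    fun g => ⟨fun h => ⟨h, BlockChar.stabilizesBlock_principal h⟩, fun h => h.1⟩
  have hcyc : IsCyclic D := hc D P.2
  obtain ⟨X, Y, v, ε, hU, hdis, hX, hY, -, hsX, hsε, hrel, hcX, hcY⟩ :=
    BlockChar.Cyclic.dade hM hmax hcyc hT hD1
  have hdvd := BlockChar.Cyclic.relIndex_dvd hM hmax hcyc hT hD1
  set e' := (Subgroup.centralizer (D : Set G)).relIndex (Subgroup.normalizer (D : Set G)) with he'
  have hp2 := hp.out.two_le
  have he'pos : 0 < e' := Nat.pos_of_ne_zero fun h => by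
    rw [h] at hdvd
    have := Nat.eq_zero_of_zero_dvd hdvd
    omega
  have he'le : e' ≤ p - 1 := Nat.le_of_dvd (by omega) hdvd
  -- the inertial index is at most the number of conjugate powers
  have he'aut : e' ≤ Nat.card (autExp hxo) := by
    set N := Subgroup.normalizer (D : Set G)
    have hex : ∀ g : N, ∃ c : (ZMod p)ˣ, c ∈ autExp hxo ∧ pw x (c : ZMod p) = (g : G) * x * (g : G)⁻¹ := by
      intro g
      have hmem : (g : G) * x * (g : G)⁻¹ ∈ D := (Subgroup.mem_normalizer_iff.1 g.2 x).1 hxP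
      have hpw : ((g : G) * x * (g : G)⁻¹) ^ p = 1 := by
        rw [conj_pow, orderOf_dvd_iff_pow_eq_one.1 hxo.dvd, mul_one, mul_inv_cancel]
      obtain ⟨c, hc'⟩ := (mem_zpowers_iff_pw hxo).1 (hc.mem_zpowers P.2 hxP hxo hmem hpw)
      have hc0 : c ≠ 0 := by
        rintro rfl
        rw [pw_zero] at hc'
        have h2 := conj_eq_one_iff.1 hc'.symm
        rw [h2, orderOf_one] at hxo
        exact hp.out.ne_one hxo.symm
      exact ⟨Units.mk0 c hc0, isConj_iff.2 ⟨(g : G), hc'.symm⟩, hc'⟩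
    choose f hf1 hf2 using hex
    let F : N ⧸ ((Subgroup.centralizer (D : Set G)).subgroupOf N) → autExp hxo :=
      fun t => ⟨f t.out, hf1 _⟩
    have hF : Function.Injective F := by
      intro a b hab
      have h : f a.out = f b.out := congrArg Subtype.val hab
      have h' := hf2 a.out
      rw [h, hf2 b.out] at h'
      rw [← Quotient.out_eq a, ← Quotient.out_eq b]
      refine QuotientGroup.eq.2 ?_
      rw [Subgroup.mem_subgroupOf]
      refine hc.centralize P hxP hxo (a.out⁻¹ * b.out).2 ?_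
      push_cast
      have h2 : (b.out : G) * x = (a.out : G) * x * (a.out : G)⁻¹ * (b.out : G) :=
        mul_inv_eq_iff_eq_mul.1 h'
      rw [mul_assoc, h2]
      group
    have := Nat.card_le_card_of_injective F hF
    exact this
  change e' * Nat.card Y = q - 1 at hY
  have hYcard : 2 ≤ Nat.card Y := by
    by_contra hlt
    have h1 : Nat.card Y ≤ 1 := by omega
    have h2 := Nat.mul_le_mul he'le h1
    rw [hY] at h2
    omega
  have hdeg : ∀ φ : Cfsg.IrrCharacter G, (φ : G → ℂ) 1 = ((Cfsg.charDegree (φ : G → ℂ) : ℕ) : ℂ) := by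
    intro φ
    obtain ⟨n, -, hn⟩ := Char.IsIrr.degree φ.2
    have : Cfsg.charDegree (φ : G → ℂ) = n := by
      rw [Cfsg.charDegree, hn, Complex.natCast_re, Nat.floor_natCast]
    rw [hn, this]
  have hlinOne : ∀ φ : Cfsg.IrrCharacter G, Cfsg.charDegree (φ : G → ℂ) = 1 → φ = triv G := by
    intro φ h1
    by_contra h
    exact (simple_char hG φ h).1 (by rw [hdeg φ, h1, Nat.cast_one])
  have htrivdeg : Cfsg.charDegree ((triv G : Cfsg.IrrCharacter G) : G → ℂ) = 1 := by
    show ⌊((1 : ℂ)).re⌋₊ = 1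
    simp
  have hYdeg : ∀ ψ ∈ Y, ∀ ψ' ∈ Y,
      Cfsg.charDegree (ψ : G → ℂ) = Cfsg.charDegree (ψ' : G → ℂ) := by
    intro ψ hψ ψ' hψ'
    have h1 : ¬ p ∣ orderOf (1 : G) := by simpa using hp.out.ne_one
    have h := (hrel ψ hψ 1 h1).trans (hrel ψ' hψ' 1 h1).symm
    rw [add_left_inj, hdeg ψ, hdeg ψ'] at h
    have h' := mul_left_cancel₀ (Int.cast_ne_zero.2 (by omega)) h
    exact_mod_cast h'
  have htrivX : triv G ∈ X := by
    have := triv_mem_principalBlock (G := G) hM
    rw [hU] at this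
    rcases this with h | h
    · exact h
    · exfalso
      have hsub : Y ⊆ {triv G} := fun ψ hψ => hlinOne ψ (by rw [hYdeg ψ hψ _ h, htrivdeg])
      rw [Nat.card_coe_set_eq] at hYcard
      have := Set.ncard_le_ncard hsub
      rw [Set.ncard_singleton] at this
      omega
  have hd' : Cfsg.charDegree (χ : G → ℂ) = d := by
    rw [Cfsg.charDegree, hd, Complex.natCast_re, Nat.floor_natCast]
  have hd1 : d ≠ 1 := fun h => (simple_char hG χ hne).1 (by rw [hd, h, Nat.cast_one])
  have hd0 : 0 < d := Nat.pos_of_ne_zero fun h =>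
    Char.IsIrr.one_ne_zero χ.2 (by rw [hd, h, Nat.cast_zero])
  have hqpos : (0 : ℤ) < q := by exact_mod_cast (by omega : 0 < q)
  -- from a congruence to a bound
  have hres : ∀ r : ℤ, ∀ b : ℕ, (r = b ∨ r = -b) → (d : ℤ) ≡ r [ZMOD (q : ℤ)] →
      (d : ℤ) ≤ b ∨ (q : ℤ) - b ≤ d := by
    intro r b hr hmod
    obtain ⟨k, hk⟩ := Int.modEq_iff_dvd.1 hmod
    rcases le_or_gt k (-1) with hk1 | hk1
    · right
      have : (q : ℤ) * k ≤ -(q : ℤ) := by nlinarith
      rcases hr with rfl | rfl <;> omega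
    · rcases le_or_gt 1 k with hk2 | hk2
      · left
        have : (q : ℤ) ≤ (q : ℤ) * k := by nlinarith
        rcases hr with rfl | rfl <;> omega
      · have : k = 0 := by omega
        subst this
        left
        rcases hr with rfl | rfl <;> omega
  rw [hU] at hχ
  rcases hχ with hχ | hχ
  · have h := hcX χ hχ _ htrivX
    rw [htrivdeg, hd', ← hqdef] at h
    have h' : (d : ℤ) ≡ v χ * v (triv G) [ZMOD (q : ℤ)] := by
      have h2 := h.mul_left (v χ)
      rcases hsX χ hχ with hv | hv <;> rw [hv] at h2 ⊢ <;> simpa using h2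
    rcases hres _ 1 (by rcases hsX χ hχ with hv | hv <;> rcases hsX _ htrivX with hw | hw <;>
      simp [hv, hw]) h' with h1 | h1
    · omega
    · right; omega
  · have h := hcY χ hχ _ htrivX
    rw [htrivdeg, hd', ← hqdef] at h
    rcases hres _ e' (by rcases hsε with hv | hv <;> rcases hsX _ htrivX with hw | hw <;>
      simp [hv, hw]) h with h1 | h1
    · left; omega
    · right; omega

/-- The simple case. -/
theorem simple_false [IsSimpleGroup G] (hG : ¬ IsMulCommutative G) (P : Sylow p G)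
    (hP : IsCyclic (P : Subgroup G)) (hpG : p ∣ Nat.card G)
    (hc : ∀ u v : G, orderOf u = p → orderOf v = p →
      Cfsg.IsPSolvable p ↥(Subgroup.closure ({u, v} : Set G))) : False := by
  classical
  have hcs := cyclicSyl_of_sylow P hP
  have hp2 := hp.out.two_le
  obtain ⟨x, hxP, hxo⟩ : ∃ x, x ∈ (P : Subgroup G) ∧ orderOf x = p := by
    obtain ⟨y, hy⟩ := exists_prime_orderOf_dvd_card' (G := (P : Subgroup G)) p (by
      exact P.dvd_card_of_dvd_card hpG)
    exact ⟨y, y.2, by rw [Subgroup.orderOf_coe]; exact hy⟩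
  have hx1 : x ≠ 1 := fun h => by rw [h, orderOf_one] at hxo; omega
  have hcomm : ∀ a ∈ (P : Subgroup G), a * x = x * a := fun a ha => hcs.comm P.2 ha hxP
  set E := autExp hxo with hE
  set e := Nat.card E with he
  -- Burnside
  have he2 : 2 ≤ e := by
    by_contra hlt
    have he1 : e = 1 := by have : 0 < e := Nat.card_pos; omega
    have hbot : E = ⊥ := Subgroup.card_eq_one.1 he1
    have hcomp : Cfsg.HasNormalPComplement p G := by
      refine Fusion.hasNormalPComplement_of_normalizer_le_centralizer (P := P) fun g hg => ?_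
      refine hcs.centralize P hxP hxo hg ?_
      have hpw : (g * x * g⁻¹) ^ p = 1 := by
        rw [conj_pow, orderOf_dvd_iff_pow_eq_one.1 hxo.dvd, mul_one, mul_inv_cancel]
      obtain ⟨c, hc'⟩ := (mem_zpowers_iff_pw hxo).1
        (hcs.mem_zpowers P.2 hxP hxo ((Subgroup.mem_normalizer_iff.1 hg x).1 hxP) hpw)
      have hc0 : c ≠ 0 := by
        rintro rfl
        rw [pw_zero] at hc'
        exact hx1 (conj_eq_one_iff.1 hc'.symm)
      have hmem : Units.mk0 c hc0 ∈ E := isConj_iff.2 ⟨g, hc'.symm⟩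
      rw [hbot, Subgroup.mem_bot] at hmem
      have hc1 : c = 1 := by simpa using congrArg Units.val hmem
      rw [hc1, pw_one] at hc'
      exact (mul_inv_eq_iff_eq_mul.1 hc'.symm)
    obtain ⟨T, N, hN, hNc⟩ := hcomp
    rcases IsSimpleGroup.eq_bot_or_eq_top_of_normal N hN with h | h
    · subst h
      have htop : (T : Subgroup G) = ⊤ := Subgroup.isComplement'_bot_left.1 hNc
      exact hG ⟨⟨fun a b => hcs.comm T.2 (htop ▸ Subgroup.mem_top a) (htop ▸ Subgroup.mem_top b)⟩⟩
    · subst h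
      have hTbot : (T : Subgroup G) = ⊥ := Subgroup.isComplement'_top_left.1 hNc
      have h1 := T.dvd_card_of_dvd_card hpG
      rw [hTbot, Subgroup.card_bot, Nat.dvd_one] at h1
      omega
  have hedvd : e ∣ p - 1 := by
    have := Subgroup.card_subgroup_dvd_card E
    rwa [Nat.card_eq_fintype_card (α := (ZMod p)ˣ), ZMod.card_units_eq_totient,
      Nat.totient_prime hp.out] at this
  have hele : e ≤ p - 1 := Nat.le_of_dvd (by omega) hedvd
  have hp3 : 3 ≤ p := by omega
  have hp35 : p = 3 ∨ 5 ≤ p := by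
    by_contra h
    rw [not_or, not_le] at h
    obtain ⟨h1, h2⟩ := h
    have hp4 : p = 4 := by omega
    exact absurd (hp4 ▸ hp.out) (by decide)
  -- sections
  obtain ⟨P₀, K, hK₀⟩ := exists_centData ⟨1, by rw [hxo, pow_one]⟩
    (hcs.hasNormalPComplement_centralizer hxo)
  have hPle : (P : Subgroup G) ≤ Subgroup.centralizer ({x} : Set G) := fun u hu =>
    Subgroup.mem_centralizer_singleton_iff.2 (hcomm u hu)
  have hq0 : Nat.card P₀ = Nat.card (P : Subgroup G) := by
    rw [show Nat.card P₀ = Nat.card (P.subtype hPle) from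
      (Sylow.card_eq_multiplicity P₀).trans (Sylow.card_eq_multiplicity (P.subtype hPle)).symm]
    exact Nat.card_congr (Subgroup.subgroupOfEquivOfLe hPle).toEquiv
  rw [hq0] at hK₀
  set q := Nat.card (P : Subgroup G) with hqdef
  obtain ⟨n, hn⟩ := IsPGroup.iff_card.1 P.2
  have hn1 : 1 ≤ n := by
    rcases n with _ | n
    · have := P.dvd_card_of_dvd_card hpG
      rw [hn, pow_zero, Nat.dvd_one] at this
      omega
    · omega
  have hq : q = p ∨ p * p ≤ q := by
    rw [hqdef, hn]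
    rcases Nat.lt_or_ge 1 n with h | h
    · right
      calc p * p = p ^ 2 := by ring
        _ ≤ p ^ n := Nat.pow_le_pow_right (by omega) h
    · left
      rw [show n = 1 by omega, pow_one]
  have hK : ∀ c : (ZMod p)ˣ, CentData p (pw x (c : ZMod p)) K q := by
    intro c
    have hcc := centralizer_pw hxo c
    exact ⟨⟨1, by rw [orderOf_pw hxo c, pow_one]⟩, fun a => by rw [hcc]; exact hK₀.mem a,
      by rw [hcc]; exact hK₀.card, by rw [hcc]; exact hK₀.compl, hK₀.coprime,
      by rw [hcc]; exact hK₀.normal, hK₀.pow⟩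
  obtain ⟨M, hM⟩ := Blocks.exists_isPModular p hp.out
  have hab : ∀ A : Subgroup G, IsPGroup p A → ∀ a ∈ A, ∀ b ∈ A, a * b = b * a :=
    fun A hA a ha b hb => hcs.comm hA ha hb
  -- the count
  set U := (Finset.univ : Finset (ZMod p)ˣ) with hU
  have hUcard : (U.card : ℝ) = (p : ℝ) - 1 := by
    rw [hU, Finset.card_univ, ZMod.card_units_eq_totient, Nat.totient_prime hp.out,
      Nat.cast_sub hp.out.one_le, Nat.cast_one]
  have hcp : ∀ d : (ZMod p)ˣ, (U.filter fun c : (ZMod p)ˣ =>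
      IsConj (pw x (c : ZMod p)) (pw x (d : ZMod p))).card = e := fun d => by
    convert card_conj_pw hxo d
  have hpoint : ∀ (c₀ : (ZMod p)ˣ) (a : G), (e : ℝ) * ((p : ℝ) - 2) ≤
      ∑ b ∈ U, ∑ c ∈ U,
        (sect p (pw x (c : ZMod p)) (pw x (c₀ : ZMod p) * (a * pw x (b : ZMod p) * a⁻¹))).re := by
    intro c₀ a
    set R := U.filter fun b : (ZMod p)ˣ =>
      ¬ p ∣ orderOf (pw x (c₀ : ZMod p) * (a * pw x (b : ZMod p) * a⁻¹)) with hR
    have hnn : ∀ c g, 0 ≤ (sect p (pw x (c : ZMod p)) g : ℂ).re := fun c g => by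
      unfold sect; split <;> simp
    have hyo : ∀ b : (ZMod p)ˣ, orderOf (a * pw x (b : ZMod p) * a⁻¹) = p := fun b => by
      rw [← MulAut.conj_apply, MulEquiv.orderOf_eq]; exact orderOf_pw hxo b
    have hRcard : R.card ≤ 1 := by
      refine Finset.card_le_one.2 fun b hb b' hb' => ?_
      have hj : a * pw x (b' : ZMod p) * a⁻¹ =
          (a * pw x (b : ZMod p) * a⁻¹) ^ (((b⁻¹ * b' : (ZMod p)ˣ) : ZMod p)).val := by
        rw [conj_pow]
        show _ = a * pw (pw x (b : ZMod p)) ((b⁻¹ * b' : (ZMod p)ˣ) : ZMod p) * a⁻¹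
        rw [pw_mul hxo, ← Units.val_mul, mul_inv_cancel_left]
      have h2 := (Finset.mem_filter.1 hb').2
      rw [hj] at h2
      have h3 := pair_unique (hc _ _ (orderOf_pw hxo c₀) (hyo b)) hab (hyo b)
        (Finset.mem_filter.1 hb).2 h2 (orderOf_pw hxo c₀)
      rw [← hj, mul_left_inj, mul_right_inj] at h3
      exact (Units.ext (pw_injective hxo h3)).symm
    have hsing : ∀ b ∈ U \ R, (e : ℝ) ≤ ∑ c ∈ U,
        (sect p (pw x (c : ZMod p)) (pw x (c₀ : ZMod p) * (a * pw x (b : ZMod p) * a⁻¹))).re := by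
      intro b hb
      set z := pw x (c₀ : ZMod p) * (a * pw x (b : ZMod p) * a⁻¹) with hz
      have hdz : p ∣ orderOf z := by
        by_contra h
        exact (Finset.mem_sdiff.1 hb).2 (Finset.mem_filter.2 ⟨Finset.mem_univ _, h⟩)
      have hexp := (quotient_data (hc _ _ (orderOf_pw hxo c₀) (hyo b)) hab (orderOf_pw hxo c₀)
        (hyo b)).2 z (mul_mem (Subgroup.subset_closure (by simp)) (Subgroup.subset_closure (by simp)))
      set w := pPartOf p z with hw
      have hwp : w ^ p = 1 := by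
        obtain ⟨k, hk⟩ := orderOf_pPartOf hp.out z
        have h1 : orderOf (w ^ p) ∣ orderOf (z ^ p) := by
          rw [hw, pPartOf, ← pow_mul, mul_comm, pow_mul]
          exact orderOf_pow_dvd _
        have h2 : orderOf (w ^ p) ∣ p ^ k := hk ▸ orderOf_pow_dvd _
        exact orderOf_eq_one_iff.1 (Nat.eq_one_of_dvd_coprimes
          ((Nat.Coprime.pow_right k (hp.out.coprime_iff_not_dvd.2 hexp).symm)) h1 h2)
      have hw1 : w ≠ 1 := fun h => (pPartOf_eq_one_iff hp.out z).1 h hdz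
      obtain ⟨g, hg⟩ := BlockThms.OrderP.exists_conj_mem P (orderOf_pPartOf hp.out z)
      have hgp : (g * w * g⁻¹) ^ p = 1 := by rw [conj_pow, hwp, mul_one, mul_inv_cancel]
      obtain ⟨c', hc'⟩ := (mem_zpowers_iff_pw hxo).1 (hcs.mem_zpowers P.2 hxP hxo hg hgp)
      have hc0 : c' ≠ 0 := by
        rintro rfl
        rw [pw_zero] at hc'
        exact hw1 (conj_eq_one_iff.1 hc'.symm)
      have hconj : IsConj w (pw x c') := isConj_iff.2 ⟨g, hc'.symm⟩
      obtain ⟨c'', rfl⟩ : ∃ u : (ZMod p)ˣ, (u : ZMod p) = c' := ⟨Units.mk0 c' hc0, rfl⟩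
      refine le_of_eq ?_
      calc (e : ℝ) = ((U.filter fun c : (ZMod p)ˣ =>
            IsConj (pw x (c : ZMod p)) (pw x (c'' : ZMod p))).card : ℝ) := by
            rw [hcp]
        _ = ∑ c ∈ U, (sect p (pw x (c : ZMod p)) z).re := by
            rw [← Finset.sum_boole]
            refine Finset.sum_congr rfl fun c _ => ?_
            unfold sect
            by_cases h : IsConj (pw x (c : ZMod p)) w
            · rw [if_pos h, if_pos (h.trans hconj)]; simp
            · rw [if_neg h, if_neg fun h' => h (h'.trans hconj.symm)]; simp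
    have h1 : ((p : ℝ) - 2) ≤ ((U \ R).card : ℝ) := by
      have h2 : U.card ≤ (U \ R).card + R.card := by
        rw [hR, ← Finset.card_sdiff_add_card_eq_card (Finset.filter_subset (fun b : (ZMod p)ˣ =>
          ¬ p ∣ orderOf (pw x (c₀ : ZMod p) * (a * pw x (b : ZMod p) * a⁻¹))) U)]
      have h3 : (U.card : ℝ) ≤ ((U \ R).card : ℝ) + (R.card : ℝ) := by exact_mod_cast h2
      have h4 : (R.card : ℝ) ≤ 1 := by exact_mod_cast hRcard
      linarith
    calc (e : ℝ) * ((p : ℝ) - 2) ≤ (e : ℝ) * ((U \ R).card : ℝ) :=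
          mul_le_mul_of_nonneg_left h1 (Nat.cast_nonneg e)
      _ = ∑ _b ∈ U \ R, (e : ℝ) := by rw [Finset.sum_const, nsmul_eq_mul, mul_comm]
      _ ≤ ∑ b ∈ U \ R, _ := Finset.sum_le_sum hsing
      _ ≤ _ := Finset.sum_le_sum_of_subset_of_nonneg Finset.sdiff_subset
          fun b _ _ => Finset.sum_nonneg fun c _ => hnn c _
  -- characters
  have hfin := Set.toFinite (Cfsg.principalBlock M G)
  choose d m hd hS hmle hmeq hmlt using fun χ : Cfsg.IrrCharacter G =>
    exists_split (Char.IsIrr.isCharacter χ.2) hxo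
  set S : Cfsg.IrrCharacter G → ℤ := fun χ => (p : ℤ) * m χ - d χ with hSdef
  have hSC : ∀ χ : Cfsg.IrrCharacter G,
      ∑ c ∈ U, (χ : G → ℂ) (pw x (c : ZMod p)) = ((S χ : ℝ) : ℂ) := fun χ => by
    rw [hS χ, hSdef]; push_cast; ring
  have hSCc : ∀ χ : Cfsg.IrrCharacter G,
      ∑ c ∈ U, conj ((χ : G → ℂ) (pw x (c : ZMod p))) = ((S χ : ℝ) : ℂ) := fun χ => by
    rw [← map_sum, hSC, Complex.conj_ofReal]
  have htriv : triv G ∈ hfin.toFinset := hfin.mem_toFinset.2 (triv_mem_principalBlock hM)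
  have ht1 : (d (triv G) : ℝ) = 1 := by
    have h1 := hd (triv G)
    have : ((triv G : Cfsg.IrrCharacter G) : G → ℂ) 1 = 1 := rfl
    rw [this] at h1
    exact_mod_cast h1.symm
  have ht2 : (S (triv G) : ℝ) = (p : ℝ) - 1 := by
    have h1 := hSC (triv G)
    have hone : ∀ g : G, ((triv G : Cfsg.IrrCharacter G) : G → ℂ) g = 1 := fun _ => rfl
    simp only [hone, Finset.sum_const, nsmul_eq_mul, mul_one] at h1
    rw [← hUcard]
    exact_mod_cast h1.symm
  set T := hfin.toFinset.erase (triv G) with hT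
  have hsplit : ∀ f : Cfsg.IrrCharacter G → ℝ,
      ∑ χ ∈ hfin.toFinset, f χ = f (triv G) + ∑ χ ∈ T, f χ :=
    fun f => (Finset.add_sum_erase _ _ htriv).symm
  have hsqall : ∑ χ ∈ hfin.toFinset, (S χ : ℝ) ^ 2 = ((p : ℝ) - 1) * e * q := by
    have h : ∀ c c' : (ZMod p)ˣ, ∑ χ ∈ hfin.toFinset,
        conj ((χ : G → ℂ) (pw x (c : ZMod p))) * (χ : G → ℂ) (pw x (c' : ZMod p)) =
        (q : ℂ) * sect p (pw x (c : ZMod p)) (pw x (c' : ZMod p)) := by
      intro c c'
      rw [(hK c).sect_eq hM, Finset.mul_sum]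
      refine Finset.sum_congr rfl fun χ _ => ?_
      have := (hK c).q_ne_zero
      field_simp
    have h2 : ((∑ χ ∈ hfin.toFinset, (S χ : ℝ) ^ 2 : ℝ) : ℂ) =
        ∑ c ∈ U, ∑ c' ∈ U, (q : ℂ) * sect p (pw x (c : ZMod p)) (pw x (c' : ZMod p)) := by
      simp only [← h, Complex.ofReal_sum]
      rw [Finset.sum_congr rfl fun c (_ : c ∈ U) => Finset.sum_comm, Finset.sum_comm]
      refine Finset.sum_congr rfl fun χ _ => ?_
      simp only [← Finset.mul_sum, ← Finset.sum_mul, hSC, hSCc]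
      push_cast; ring
    have h3 : ∀ c' : (ZMod p)ˣ,
        ∑ c ∈ U, sect p (pw x (c : ZMod p)) (pw x (c' : ZMod p)) = (e : ℂ) := by
      intro c'
      have hpp : pPartOf p (pw x (c' : ZMod p)) = pw x (c' : ZMod p) :=
        BlockThms.OrderP.pPartOf_self ⟨1, by rw [orderOf_pw hxo c', pow_one]⟩
      rw [Finset.sum_congr rfl (g := fun c : (ZMod p)ˣ =>
          if IsConj (pw x (c : ZMod p)) (pw x (c' : ZMod p)) then (1 : ℂ) else 0)
        (fun c _ => by rw [sect, hpp]), Finset.sum_boole, hcp]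
    rw [Finset.sum_comm] at h2
    simp only [← Finset.mul_sum, h3, Finset.sum_const, nsmul_eq_mul] at h2
    rw [← hUcard]
    have h4 : ((∑ χ ∈ hfin.toFinset, (S χ : ℝ) ^ 2 : ℝ) : ℂ) =
        ((((U.card : ℝ) * e * q : ℝ)) : ℂ) := by
      rw [h2]; push_cast; ring
    exact_mod_cast h4
  set A : ℝ := (e : ℝ) * q - ((p : ℝ) - 1) with hA
  have hsq : ∑ χ ∈ T, (S χ : ℝ) ^ 2 = ((p : ℝ) - 1) * A := by
    rw [hsplit, ht2] at hsqall
    rw [hA]
    linarith
  have hlin : ∑ χ ∈ T, (S χ : ℝ) * d χ = -((p : ℝ) - 1) := by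
    have h1 : ∀ c : (ZMod p)ˣ, ∑ χ ∈ hfin.toFinset,
        conj ((χ : G → ℂ) (pw x (c : ZMod p))) * (d χ : ℂ) = 0 := by
      intro c
      have h1 := (hK c).sect_eq hM 1
      have h0 : sect p (pw x (c : ZMod p)) (1 : G) = 0 := by
        refine if_neg ?_
        rw [(pPartOf_eq_one_iff hp.out (1 : G)).2 (by simpa using hp.out.ne_one), isConj_one_left]
        intro h
        have := orderOf_pw hxo c
        rw [h, orderOf_one] at this
        omega
      rw [h0] at h1
      simp only [mul_assoc, ← Finset.mul_sum] at h1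
      rw [← (mul_eq_zero.1 h1.symm).resolve_left (inv_ne_zero (hK c).q_ne_zero)]
      exact Finset.sum_congr rfl fun χ _ => by rw [hd χ]
    have h2 : ((∑ χ ∈ hfin.toFinset, (S χ : ℝ) * d χ : ℝ) : ℂ) = 0 := by
      calc ((∑ χ ∈ hfin.toFinset, (S χ : ℝ) * d χ : ℝ) : ℂ)
          = ∑ c ∈ U, ∑ χ ∈ hfin.toFinset,
              conj ((χ : G → ℂ) (pw x (c : ZMod p))) * (d χ : ℂ) := by
            rw [Finset.sum_comm, Complex.ofReal_sum]
            refine Finset.sum_congr rfl fun χ _ => ?_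
            rw [← Finset.sum_mul, hSCc, Complex.ofReal_mul, Complex.ofReal_natCast]
        _ = 0 := Finset.sum_eq_zero fun c _ => h1 c
    rw [Complex.ofReal_eq_zero, hsplit, ht2, ht1, mul_one] at h2
    linarith
  have hcnt : ((p : ℝ) - 2) * (((p : ℝ) - 1) * A) - ((p : ℝ) - 1) ^ 2 ≤
      ∑ χ ∈ T, (S χ : ℝ) ^ 3 / d χ := by
    have hlow : ((p : ℝ) - 1) * ((Nat.card G : ℝ) * ((e : ℝ) * ((p : ℝ) - 2))) ≤
        ∑ c₀ ∈ U, ∑ a : G, ∑ b ∈ U, ∑ c ∈ U,
          (sect p (pw x (c : ZMod p)) (pw x (c₀ : ZMod p) * (a * pw x (b : ZMod p) * a⁻¹))).re := by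
      refine le_trans ?_ (Finset.sum_le_sum fun c₀ _ => Finset.sum_le_sum fun a _ => hpoint c₀ a)
      simp only [Finset.sum_const, nsmul_eq_mul, Finset.card_univ, ← Nat.card_eq_fintype_card]
      rw [hUcard]
    have hval : ∑ c₀ ∈ U, ∑ a : G, ∑ b ∈ U, ∑ c ∈ U,
          sect p (pw x (c : ZMod p)) (pw x (c₀ : ZMod p) * (a * pw x (b : ZMod p) * a⁻¹)) =
        (((Nat.card G : ℝ) * (q : ℝ)⁻¹ * ∑ χ ∈ hfin.toFinset, (S χ : ℝ) ^ 3 / d χ : ℝ) : ℂ) := by
      calc _ = ∑ c₀ ∈ U, ∑ b ∈ U, ∑ c ∈ U, (Nat.card G : ℂ) * (q : ℂ)⁻¹ *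
            ∑ χ ∈ hfin.toFinset, conj ((χ : G → ℂ) (pw x (c : ZMod p))) *
              (χ : G → ℂ) (pw x (c₀ : ZMod p)) * (χ : G → ℂ) (pw x (b : ZMod p)) /
                (χ : G → ℂ) 1 := by
            refine Finset.sum_congr rfl fun c₀ _ => ?_
            rw [Finset.sum_comm]
            refine Finset.sum_congr rfl fun b _ => ?_
            rw [Finset.sum_comm]
            exact Finset.sum_congr rfl fun c _ => (hK c).sum_sect_mul₂ hM _ _
        _ = (Nat.card G : ℂ) * (q : ℂ)⁻¹ * ∑ χ ∈ hfin.toFinset, (((S χ : ℝ) ^ 3 / d χ : ℝ) : ℂ) := by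
            simp only [← Finset.mul_sum]
            congr 1
            rw [Finset.sum_congr rfl fun c₀ (_ : c₀ ∈ U) =>
              (Finset.sum_congr rfl fun b (_ : b ∈ U) => Finset.sum_comm).trans Finset.sum_comm,
              Finset.sum_comm]
            refine Finset.sum_congr rfl fun χ _ => ?_
            simp only [← Finset.sum_div, ← Finset.sum_mul, ← Finset.mul_sum, hSC, hSCc, hd χ]
            push_cast; ring
        _ = _ := by push_cast; ring
    have hre : ∑ c₀ ∈ U, ∑ a : G, ∑ b ∈ U, ∑ c ∈ U,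
          (sect p (pw x (c : ZMod p)) (pw x (c₀ : ZMod p) * (a * pw x (b : ZMod p) * a⁻¹))).re =
        (Nat.card G : ℝ) * (q : ℝ)⁻¹ * ∑ χ ∈ hfin.toFinset, (S χ : ℝ) ^ 3 / d χ := by
      simp only [← Complex.re_sum, hval, Complex.ofReal_re]
    rw [hre, hsplit, ht2, ht1, div_one] at hlow
    have hG0 : (0 : ℝ) < Nat.card G := Nat.cast_pos.2 Nat.card_pos
    have hq0 : (0 : ℝ) < q := Nat.cast_pos.2 Nat.card_pos
    set s := ∑ χ ∈ T, (S χ : ℝ) ^ 3 / (d χ : ℝ)
    have h5 : (Nat.card G : ℝ) * (((p : ℝ) - 1) * ((e : ℝ) * ((p : ℝ) - 2)) * q) ≤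
        (Nat.card G : ℝ) * (((p : ℝ) - 1) ^ 3 + s) := by
      have h4 := mul_le_mul_of_nonneg_right hlow hq0.le
      have h6 : (Nat.card G : ℝ) * (q : ℝ)⁻¹ * (((p : ℝ) - 1) ^ 3 + s) * q =
          (Nat.card G : ℝ) * (((p : ℝ) - 1) ^ 3 + s) := by field_simp
      linarith
    have := le_of_mul_le_mul_left h5 hG0
    rw [hA]
    linarith
  refine cyclic_contra T (fun χ => (d χ : ℝ)) (fun χ => (S χ : ℝ)) (p := (p : ℝ))
    (ρ := rho p q) ?_ (rho_nonneg hp3) (by exact_mod_cast hp3) ?_ hsq hlin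
    (rho_gap hp35 he2 hq hele) le_rfl hcnt
  · intro χ _
    exact Nat.cast_pos.2 (Nat.pos_of_ne_zero fun h =>
      Char.IsIrr.one_ne_zero χ.2 (by rw [hd χ, h, Nat.cast_zero]))
  · intro χ hχ hpos
    have hne := (Finset.mem_erase.1 hχ).1
    have hmd : m χ < d χ := lt_of_le_of_ne (hmle χ) fun h =>
      (simple_char hG χ hne).2 x hx1 (hmeq χ h)
    have hmed := hmlt χ hmd
    rw [← hE, ← he] at hmed
    have hposZ : 0 < S χ := by exact_mod_cast hpos
    have hsqZ : S χ ^ 2 ≤ ((p : ℤ) - 1) * ((e : ℤ) * q - ((p : ℤ) - 1)) := by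
      have h1 : (S χ : ℝ) ^ 2 ≤ ((p : ℝ) - 1) * A := by
        rw [← hsq]
        exact Finset.single_le_sum (f := fun i => (S i : ℝ) ^ 2) (fun j _ => sq_nonneg _) hχ
      rw [hA] at h1
      exact_mod_cast h1
    refine le_rho_mul (e := e) hp35 he2 hele hq hposZ hsqZ ?_ fun hlt => ?_
    · have hmedZ : (m χ : ℤ) + e ≤ d χ := by exact_mod_cast hmed
      rw [hSdef]
      nlinarith
    · rcases degree_bound hG hM P hcs hxo hxP hlt (hfin.mem_toFinset.1 (Finset.mem_erase.1 hχ).2)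
        hne (hd χ) with h | h
      · exfalso
        rw [← hE, ← he] at h
        have hm0 : m χ = 0 := by omega
        rw [hSdef] at hposZ
        simp only [hm0, Nat.cast_zero, mul_zero, zero_sub] at hposZ
        omega
      · exact h

end Cfsg.Agent.PairPSolv
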